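import Mathlib
import Cfsg.Prelude.Def_Characters
import Cfsg.Prelude.Def_Blocks
import Cfsg.Agent.Characters.Core
import Cfsg.Agent.Characters.Clifford
import Cfsg.Agent.Characters.GaloisIrr
import Cfsg.Agent.H686.CharKit
set_option linter.all false

/-!
# Characters fixed by a power map

For `k` coprime to the group order, `g ↦ χ (g ^ k)` is a Galois conjugate of the irreducible
character `χ`; `χ` is fixed when `χ (g ^ k) = χ g` for all `g`.

* `pw`: the twisted character;
* `fixed_of_constituent` (S4518): if `k ^ (p ^ e) ≡ 1` modulo the group order and the index of the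
  normal subgroup `N` is prime to `p`, the constituents on `N` of a fixed irreducible character are
  fixed.
-/

set_option autoImplicit false

namespace Cfsg.Agent.H610.Twist

open Cfsg Cfsg.Agent.Characters
open scoped ComplexConjugate

variable {G : Type*} [Group G]

/-- the twist of an irreducible character by a power map -/
noncomputable def pw [Finite G] {k : ℕ} (hk : Nat.Coprime k (Nat.card G)) (χ : IrrCharacter G) :
    IrrCharacter G :=
  ⟨fun g => (χ : G → ℂ) (g ^ k), GaloisIrr.isIrr_pow hk χ.2⟩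

theorem pw_apply [Finite G] {k : ℕ} (hk : Nat.Coprime k (Nat.card G)) (χ : IrrCharacter G) (g : G) :
    (pw hk χ : G → ℂ) g = (χ : G → ℂ) (g ^ k) := rfl

theorem pw_iterate [Finite G] {k : ℕ} (hk : Nat.Coprime k (Nat.card G)) (χ : IrrCharacter G)
    (m : ℕ) (g : G) : (((pw hk)^[m] χ : IrrCharacter G) : G → ℂ) g = (χ : G → ℂ) (g ^ k ^ m) := by
  induction m generalizing χ g with
  | zero => simp
  | succ m ih =>
    rw [Function.iterate_succ_apply, ih, pw_apply, ← pow_mul, pow_succ]

theorem pow_eq_of_modEq [Finite G] {m n : ℕ} (h : m ≡ n [MOD Nat.card G]) (g : G) :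
    g ^ m = g ^ n := by
  rw [pow_eq_pow_iff_modEq]
  exact h.of_dvd (orderOf_dvd_natCard g)

theorem pw_iterate_eq [Finite G] {k : ℕ} (hk : Nat.Coprime k (Nat.card G)) {m : ℕ}
    (hm : k ^ m ≡ 1 [MOD Nat.card G]) (χ : IrrCharacter G) : (pw hk)^[m] χ = χ := by
  apply Subtype.ext
  funext g
  rw [pw_iterate, pow_eq_of_modEq hm, pow_one]

theorem pw_injective [Finite G] {k : ℕ} (hk : Nat.Coprime k (Nat.card G)) :
    Function.Injective (pw hk : IrrCharacter G → IrrCharacter G) := by
  intro χ ψ h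
  apply Subtype.ext
  funext g
  obtain ⟨y, hy⟩ := (powCoprime hk.symm).surjective g
  have h1 := congrFun (congrArg Subtype.val h) y
  have h2 : y ^ k = g := hy
  rw [pw_apply, pw_apply, h2] at h1
  exact h1

theorem fixed_iff [Finite G] {k : ℕ} (hk : Nat.Coprime k (Nat.card G)) (χ : IrrCharacter G) :
    pw hk χ = χ ↔ ∀ g : G, (χ : G → ℂ) (g ^ k) = (χ : G → ℂ) g :=
  ⟨fun h g => congrFun (congrArg Subtype.val h) g, fun h => Subtype.ext (funext h)⟩

/-- The inner product is invariant under the twist. -/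
theorem classInner_pow [Fintype G] {k : ℕ} (hk : Nat.Coprime k (Nat.card G)) (φ ψ : G → ℂ) :
    classInner (fun g => φ (g ^ k)) (fun g => ψ (g ^ k)) = classInner φ ψ := by
  rw [Core.classInner_def, Core.classInner_def]
  congr 1
  exact Fintype.sum_equiv (powCoprime hk.symm) _ _ (fun x => rfl)

theorem coprime_subgroup [Finite G] {k : ℕ} (hk : Nat.Coprime k (Nat.card G)) (N : Subgroup G) :
    Nat.Coprime k (Nat.card N) :=
  Nat.Coprime.coprime_dvd_right (Subgroup.card_subgroup_dvd_card N) hk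

/-- If `χ` is fixed then the twist of a constituent of the restriction is a constituent. -/
theorem classInner_restrict_pw [Fintype G] {k : ℕ} (hk : Nat.Coprime k (Nat.card G))
    (N : Subgroup G) [Fintype N] (χ : G → ℂ) (hχ : ∀ g : G, χ (g ^ k) = χ g) (θ : IrrCharacter N) :
    classInner (fun n : N => χ n) (pw (coprime_subgroup hk N) θ : N → ℂ) =
      classInner (fun n : N => χ n) (θ : N → ℂ) := by
  have h := classInner_pow (coprime_subgroup hk N) (fun n : N => χ n) (θ : N → ℂ)
  rw [← h]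
  congr 1
  funext n
  show χ (n : G) = χ ((n ^ k : N) : G)
  rw [Subgroup.coe_pow, hχ]

/-- The twist commutes with conjugation. -/
theorem pw_conj [Finite G] {k : ℕ} (N : Subgroup G) [N.Normal] (hk : Nat.Coprime k (Nat.card N))
    (θ : IrrCharacter N) (g : G) :
    (pw hk ⟨(θ : N → ℂ) ∘ (MulAut.conjNormal g : MulAut N), Clifford.isIrr_conjNormal θ.2 g⟩ :
      IrrCharacter N) =
    ⟨(pw hk θ : N → ℂ) ∘ (MulAut.conjNormal g : MulAut N), Clifford.isIrr_conjNormal (pw hk θ).2 g⟩ := by
  apply Subtype.ext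
  funext n
  show (θ : N → ℂ) ((MulAut.conjNormal g : MulAut N) (n ^ k)) =
    (θ : N → ℂ) (((MulAut.conjNormal g : MulAut N) n) ^ k)
  rw [map_pow]

/-- **S4518.** The constituents on a normal subgroup of index prime to `p` of a fixed irreducible
character are fixed, if the twist has `p`-power order. -/
theorem fixed_of_constituent [Fintype G] (p : ℕ) [hp : Fact p.Prime] (N : Subgroup G) [N.Normal]
    [Fintype N] (hidx : ¬ p ∣ N.index) (k e : ℕ) (hk : Nat.Coprime k (Nat.card G))
    (hke : k ^ (p ^ e) ≡ 1 [MOD Nat.card G]) (χ : IrrCharacter G)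
    (hχ : ∀ g : G, (χ : G → ℂ) (g ^ k) = (χ : G → ℂ) g) (θ : IrrCharacter N)
    (hθ : classInner (fun n : N => (χ : G → ℂ) n) (θ : N → ℂ) ≠ 0) :
    ∀ n : N, (θ : N → ℂ) (n ^ k) = (θ : N → ℂ) n := by
  classical
  have hkN := coprime_subgroup hk N
  have hirr := Core.finite_irr (G := N)
  -- the orbit of `θ`
  let O := {ψ : IrrCharacter N // ∃ g : G, (ψ : N → ℂ) = (θ : N → ℂ) ∘ (MulAut.conjNormal g : MulAut N)}
  have : Fintype O := Fintype.ofFinite O
  have hcard : ¬ p ∣ Fintype.card O := by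
    rw [← Nat.card_eq_fintype_card]
    have h1 := Cfsg.Agent.H686.CharKit.inertia_index N θ
    intro h2
    apply hidx
    have h3 : N ≤ Cfsg.Agent.H686.CharKit.inertia N θ := by
      intro x hx
      rw [Cfsg.Agent.H686.CharKit.mem_inertia]
      intro n n' hn
      have h4 : n' = (⟨x, hx⟩ : N) * n * (⟨x, hx⟩ : N)⁻¹ := Subtype.ext hn
      rw [h4]
      exact Core.isIrr_isClassFunction θ.2 _ _
    have h5 := Subgroup.index_dvd_of_le h3
    rw [h1] at h5
    exact h2.trans h5
  -- every twist of a member of `O` is in `O`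
  have hmem : ∀ ψ : IrrCharacter N,
      (∃ g : G, (ψ : N → ℂ) = (θ : N → ℂ) ∘ (MulAut.conjNormal g : MulAut N)) →
      ∃ g : G, (pw hkN ψ : N → ℂ) = (θ : N → ℂ) ∘ (MulAut.conjNormal g : MulAut N) := by
    rintro ψ ⟨g, hg⟩
    have h1 : classInner (fun n : N => (χ : G → ℂ) n) (ψ : N → ℂ) ≠ 0 := by
      rw [hg, Clifford.classInner_restrict_conjNormal (Core.isIrr_isClassFunction χ.2)]
      exact hθ
    have h2 : classInner (fun n : N => (χ : G → ℂ) n) (pw hkN ψ : N → ℂ) ≠ 0 := by
      rw [classInner_restrict_pw hk N (χ : G → ℂ) hχ]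
      exact h1
    exact Clifford.exists_conj_of_constituents N χ.2 θ.2 (pw hkN ψ).2 hθ h2
  let s : O → O := fun ψ => ⟨pw hkN ψ.1, hmem ψ.1 ψ.2⟩
  have hsinj : Function.Injective s := by
    intro ψ φ h
    exact Subtype.ext (pw_injective hkN (congrArg Subtype.val h))
  let σ : Equiv.Perm O := Equiv.ofBijective s (Finite.injective_iff_bijective.1 hsinj)
  have hke' : k ^ (p ^ e) ≡ 1 [MOD Nat.card N] := hke.of_dvd (Subgroup.card_subgroup_dvd_card N)
  have hσ : σ ^ p ^ e = 1 := by
    apply Equiv.ext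
    intro ψ
    apply Subtype.ext
    have h1 : ∀ (m : ℕ) (ψ : O), ((σ ^ m) ψ : O).1 = (pw hkN)^[m] ψ.1 := by
      intro m
      induction m with
      | zero => intro ψ; rfl
      | succ m ih =>
        intro ψ
        rw [pow_succ, Equiv.Perm.mul_apply, ih, Function.iterate_succ_apply]
        rfl
    rw [h1, pw_iterate_eq hkN hke']
    rfl
  obtain ⟨ψ, hψ⟩ := Equiv.Perm.exists_fixed_point_of_prime hcard hσ
  obtain ⟨⟨ψ, hψO⟩, hψ⟩ : ∃ ψ : O, σ ψ = ψ := ⟨ψ, hψ⟩
  obtain ⟨g, hg⟩ := hψO
  have h1 : pw hkN ψ = ψ := congrArg Subtype.val hψ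
  have h2 := (fixed_iff hkN ψ).1 h1
  intro n
  have h3 := h2 ((MulAut.conjNormal g : MulAut N).symm n)
  rw [hg] at h3
  simp only [Function.comp_apply, map_pow, MulEquiv.apply_symm_apply] at h3
  exact h3

end Cfsg.Agent.H610.Twist
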