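import Cfsg.Agent.LieExceptional.BNPairCore
import Cfsg.Agent.ChevalleyStructure.Elts
import Cfsg.Agent.ChevalleyStructure.RootVec
import Cfsg.Agent.S1027
import Cfsg.Agent.S1031
import Cfsg.Agent.S1032
import Cfsg.Agent.S1033
import Cfsg.Agent.S1034
import Cfsg.Agent.S1036
import Cfsg.Agent.S1037
import Cfsg.Agent.S1042
import Cfsg.Agent.S1045
import Cfsg.Agent.FastGrp
import Cfsg.Agent.Prune
set_option linter.all false
prune_inst 0x7f00000000000000000000000000000000000000000000000000000000000000000000000000000000000000000000000000000000000000000000000000000000000000000000000000000000000000003fffffffffffffffffffffffffffbeffbdffffffff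
open scoped Cfsg.Agent.FastGrp

-- part: H610/RegularBN
section
/-!
# Fixed chambers of an element of the Borel subgroup of a (B, N)-pair

`exists_adjacent`: if `u ∈ B` lies in another conjugate of `B`, then it lies in a conjugate
`b s B s⁻¹ b⁻¹` with `b ∈ B`, `s` a distinguished generator (a fixed chamber adjacent to `B`).

`centralizer_le`: if this is not the case then the centralizer of `u` is contained in `B`.
-/

set_option autoImplicit false

namespace Cfsg.Agent.H610.RegularBN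

open Cfsg Cfsg.Agent.LieExceptional.BNPairCore

variable {G : Type*} [Group G] {P : Cfsg.BNPair G}

/-- An element of `B` fixing a second chamber fixes a chamber adjacent to `B`. -/
theorem exists_adjacent {u g : G} (hu : u ∈ P.B) (hg : g⁻¹ * u * g ∈ P.B) (hgB : g ∉ P.B) :
    ∃ s ∈ P.S, ∃ b ∈ P.B, s⁻¹ * (b⁻¹ * u * b) * s ∈ P.B := by
  obtain ⟨n, hn, hgn⟩ := bruhat (P := P) g
  obtain ⟨x, hx, y, hy, hxy⟩ := mem_C.1 hgn
  have hnB : n ∉ P.B := fun h => hgB (mem_B_of_mem_C h hgn)
  obtain ⟨l, hl, hlS, hln⟩ := exists_reduced (P := P) hn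
  have hlen : len P n ≠ 0 := fun h => hnB ((len_eq_zero_iff hn).1 h)
  match l, hl, hlS, hln with
  | [], hl, _, _ => exact absurd hl.symm hlen
  | s :: l₂, hl, hlS, hln =>
    have hs : s ∈ P.S := hlS s (by simp)
    have hl₂S : ∀ x ∈ l₂, x ∈ P.S := fun x hx => hlS x (by simp [hx])
    set m := l₂.prod with hm
    have hmN : m ∈ P.N := prod_mem_N hl₂S
    rw [List.prod_cons, ← hm] at hln
    have hlenm : len P m ≤ len P (s * m) := by
      have h1 : len P m ≤ l₂.length := len_prod_le hl₂S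
      rw [len_congr hln, ← hl, List.length_cons]
      omega
    refine ⟨s, hs, x, hx, ?_⟩
    set u' := x⁻¹ * u * x with hu'
    have hu'B : u' ∈ P.B := mul_mem (mul_mem (inv_mem hx) hu) hx
    by_contra hv
    set v := s⁻¹ * u' * s with hvdef
    -- `v ∈ B s B`
    have hvC : v ∈ C P s := by
      have h1 : v = s * ((s * s)⁻¹ * u') * s := by rw [hvdef]; group
      rcases axiom_left (P := P) hs (mem_N hs) (mul_mem (inv_sq_mem hs) hu'B) with h | h
      · exfalso
        rw [← h1] at h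
        exact hv (mem_B_of_mem_C (P.sq_mem s hs) h)
      · rwa [← h1] at h
    obtain ⟨b1, hb1, b2, hb2, hv2⟩ := mem_C.1 hvC
    -- `m⁻¹ v m ∈ B`
    have hmv : m⁻¹ * v * m ∈ P.B := by
      have h1 : y⁻¹ * (n⁻¹ * u' * n) * y = g⁻¹ * u * g := by
        rw [hxy, hu']; group
      have h2 : n⁻¹ * u' * n ∈ P.B := by
        have h3 : n⁻¹ * u' * n = y * (g⁻¹ * u * g) * y⁻¹ := by rw [← h1]; group
        rw [h3]
        exact mul_mem (mul_mem hy hg) (inv_mem hy)
      have h4 : m⁻¹ * v * m = ((s * m)⁻¹ * n) * (n⁻¹ * u' * n) * ((s * m)⁻¹ * n)⁻¹ := by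
        rw [hvdef]; group
      rw [h4]
      exact mul_mem (mul_mem hln h2) (inv_mem hln)
    have h5 : v * m ∈ C P m := by
      have h6 : v * m = m * (m⁻¹ * v * m) := by group
      rw [h6]
      exact mul_mem_C_right hmv (self_mem_C m)
    have h7 : v * m ∈ C P (s * m) := by
      have h8 : v * m = b1 * (s * b2 * m) := by rw [hv2]; group
      rw [h8]
      exact mul_mem_C_left hb1 (mul_mem_C_of_le hs hmN hb2 hlenm)
    exact not_C_mul_left_eq hs hmN (C_eq_of_mem_mem h7 h5)

theorem centralizer_le {u : G} (hu : u ∈ P.B)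
    (h : ∀ s ∈ P.S, ∀ b ∈ P.B, s⁻¹ * (b⁻¹ * u * b) * s ∉ P.B) :
    Subgroup.centralizer ({u} : Set G) ≤ P.B := by
  intro g hg
  by_contra hgB
  have h1 := Subgroup.mem_centralizer_singleton_iff.1 hg
  have h2 : g⁻¹ * u * g ∈ P.B := by
    have h3 : g⁻¹ * u * g = u := by
      rw [mul_assoc, ← h1, inv_mul_cancel_left]
    rwa [h3]
  obtain ⟨s, hs, b, hb, h4⟩ := exists_adjacent hu h2 hgB
  exact h s hs b hb h4

end Cfsg.Agent.H610.RegularBN
end

-- part: H610/ChevRegular
section
/-!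
# Regular unipotent elements of the Chevalley groups `D.group F`

For `D` one of `chevG2, chevB2, chevD4, chevF4, chevE6, chevE7, chevE8`:

* `Comp hD i u t` : the component of `u ∈ U` at the `i`-th fundamental root is `t`;
* `mem_posUnipotent_of_comm`: an element of `D.group F` commuting with an element `y ∈ U` all of whose
  components at the fundamental roots are nonzero lies in `U`.
-/

set_option autoImplicit false

namespace Cfsg.Agent.H610.ChevRegular

open Cfsg Cfsg.Lie Cfsg.Agent.ChevalleyStructure.Elts Cfsg.Agent.ChevalleyStructure.RootVec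
  Cfsg.Agent.ChevalleyStructure.RootVecTab

universe u

variable {F : Type u} [Field F] {D : ChevalleyDatum}

/-- The subgroup generated by the root subgroups of the positive roots other than the `i`-th
fundamental root. -/
def Ui (D : ChevalleyDatum) (F : Type u) [Field F] (i : ℕ) : Subgroup (GL D.Idx F) :=
  Subgroup.closure {g : GL D.Idx F | ∃ (s : ℕ) (t : F), D.IsPosRoot s ∧ s ≠ D.simple i ∧
    (g : Matrix D.Idx D.Idx F) = D.x F s t}

theorem checked (hD : InList D) : Checked D := checked_of_mem hD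

theorem xG_mem_Ui (hD : InList D) {i s : ℕ} (hs : D.IsPosRoot s) (hsi : s ≠ D.simple i) (t : F) :
    xG hD s t ∈ Ui D F i := Subgroup.subset_closure ⟨s, t, hs, hsi, rfl⟩

theorem Ui_le (D : ChevalleyDatum) (F : Type u) [Field F] (i : ℕ) : Ui D F i ≤ D.posUnipotent F := by
  unfold Ui
  rw [Subgroup.closure_le]
  rintro g ⟨s, t, hs, -, h⟩
  exact Subgroup.subset_closure ⟨s, t, hs, h⟩

theorem conj_mem_Ui (hD : InList D) {i : ℕ} (hi : i < D.rank) {g : GL D.Idx F}
    (hg : g ∈ D.rootSubgroup F (D.simple i) ⊔ D.rootSubgroup F (D.neg (D.simple i)))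
    {u : GL D.Idx F} (hu : u ∈ Ui D F i) : g * u * g⁻¹ ∈ Ui D F i :=
  (Subgroup.mem_normalizer_iff.1 ((Cfsg.Agent.S1045.result (F := F) D hD i hi).1 hg) u).1 hu

theorem conj_x_mem_Ui (hD : InList D) {i : ℕ} (hi : i < D.rank) (t : F)
    {u : GL D.Idx F} (hu : u ∈ Ui D F i) :
    xG hD (D.simple i) t * u * (xG hD (D.simple i) t)⁻¹ ∈ Ui D F i :=
  conj_mem_Ui hD hi (Subgroup.mem_sup_left (xG_mem_rootSubgroup hD _ _)) hu

/-- The component of `u` at the `i`-th fundamental root is `t`. -/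
def Comp (hD : InList D) (i : ℕ) (u : GL D.Idx F) (t : F) : Prop :=
  u * (xG hD (D.simple i) t)⁻¹ ∈ Ui D F i

theorem comp_one (hD : InList D) (i : ℕ) : Comp hD i (1 : GL D.Idx F) 0 := by
  unfold Comp
  rw [xG_zero, inv_one, mul_one]
  exact one_mem _

theorem comp_mul (hD : InList D) {i : ℕ} (hi : i < D.rank) {u v : GL D.Idx F} {s t : F}
    (hu : Comp hD i u s) (hv : Comp hD i v t) : Comp hD i (u * v) (s + t) := by
  unfold Comp at *
  have h1 : u * v * (xG hD (D.simple i) (s + t))⁻¹ = (u * (xG hD (D.simple i) s)⁻¹) *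
      (xG hD (D.simple i) s * (v * (xG hD (D.simple i) t)⁻¹) * (xG hD (D.simple i) s)⁻¹) := by
    rw [← xG_add]
    group
  rw [h1]
  exact mul_mem hu (conj_x_mem_Ui hD hi s hv)

theorem comp_inv (hD : InList D) {i : ℕ} (hi : i < D.rank) {u : GL D.Idx F} {s : F}
    (hu : Comp hD i u s) : Comp hD i u⁻¹ (-s) := by
  unfold Comp at *
  rw [← xG_inv, inv_inv]
  have h1 : u⁻¹ * xG hD (D.simple i) s = ((xG hD (D.simple i) s)⁻¹ *
      (u * (xG hD (D.simple i) s)⁻¹) * ((xG hD (D.simple i) s)⁻¹)⁻¹)⁻¹ := by group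
  rw [h1]
  apply inv_mem
  have h2 := conj_x_mem_Ui hD hi (-s) hu
  rwa [← xG_inv] at h2

theorem comp_simple (hD : InList D) (i : ℕ) (t : F) : Comp hD i (xG hD (D.simple i) t) t := by
  unfold Comp
  rw [mul_inv_cancel]
  exact one_mem _

theorem comp_root (hD : InList D) {i s : ℕ} (hs : D.IsPosRoot s) (hsi : s ≠ D.simple i) (t : F) :
    Comp hD i (xG hD s t) 0 := by
  unfold Comp
  rw [xG_zero, inv_one, mul_one]
  exact xG_mem_Ui hD hs hsi t

/-- Every element of `U` has a component. -/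
theorem exists_comp (hD : InList D) {i : ℕ} (hi : i < D.rank) {u : GL D.Idx F}
    (hu : u ∈ D.posUnipotent F) : ∃ t, Comp hD i u t := by
  let K : Subgroup (GL D.Idx F) :=
    { carrier := {u | ∃ t, Comp hD i u t}
      mul_mem' := by
        rintro a b ⟨s, ha⟩ ⟨t, hb⟩
        exact ⟨_, comp_mul hD hi ha hb⟩
      one_mem' := ⟨0, comp_one hD i⟩
      inv_mem' := by
        rintro a ⟨s, ha⟩
        exact ⟨_, comp_inv hD hi ha⟩ }
  have h1 : D.posUnipotent F ≤ K := by
    rw [posUnipotent_le_iff hD]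
    intro r hr t
    by_cases h : r = D.simple i
    · rw [h]
      exact ⟨t, comp_simple hD i t⟩
    · exact ⟨0, comp_root hD hr h t⟩
  exact h1 hu

/-! ### The action of `n_i` and the uniqueness of the component -/

theorem nG_mem (hD : InList D) (i : ℕ) : nG hD (D.simple i) (1 : F) ∈
    D.rootSubgroup F (D.simple i) ⊔ D.rootSubgroup F (D.neg (D.simple i)) := by
  rw [nG_def]
  exact mul_mem (Subgroup.mem_sup_left (xG_mem_rootSubgroup hD _ _))
    (mul_mem (Subgroup.mem_sup_right (xG_mem_rootSubgroup hD _ _))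
    (Subgroup.mem_sup_left (xG_mem_rootSubgroup hD _ _)))

/-- `n_i x_{-i}(t) n_i⁻¹ = x_i(± t)`. -/
theorem nG_conj_neg (hD : InList D) {i : ℕ} (hi : i < D.rank) :
    ∃ η : F, η ≠ 0 ∧ ∀ t : F, nG hD (D.simple i) (1 : F) * xG hD (D.neg (D.simple i)) t *
      (nG hD (D.simple i) (1 : F))⁻¹ = xG hD (D.simple i) (η * t) := by
  have hC := checked hD
  have hlt := simple_lt hC hi
  obtain ⟨η, hη, h⟩ := Cfsg.Agent.S1031.result (F := F) D hD i (D.neg (D.simple i)) hi
    (neg_lt hC hlt)
  refine ⟨(η : F), ?_, fun t => ?_⟩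
  · rcases hη with rfl | rfl <;> simp
  · have h1 : D.reflectRoot i (D.neg (D.simple i)) = D.simple i := by
      unfold ChevalleyDatum.reflectRoot
      simp only
      rw [if_neg (neg_ne hC hlt), if_pos trivial]
    have h2 := h t
    rw [h1] at h2
    rw [mul_inv_eq_iff_eq_mul]
    apply Units.ext
    rw [Units.val_mul, Units.val_mul, coe_nG, coe_xG, coe_xG]
    exact h2

/-- `n_i⁻¹ x_i(t) n_i ∈ B` only for `t = 0`. -/
theorem eq_zero_of_conj_mem (hD : InList D) {i : ℕ} (hi : i < D.rank) {t : F}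
    (h : (nG hD (D.simple i) (1 : F))⁻¹ * xG hD (D.simple i) t * nG hD (D.simple i) (1 : F) ∈
      D.borelSubgroup F) : t = 0 := by
  have hC := checked hD
  have hlt := simple_lt hC hi
  obtain ⟨η, hη, h1⟩ := nG_conj_neg (F := F) hD hi
  have h2 := h1 (η⁻¹ * t)
  rw [mul_inv_cancel_left₀ hη] at h2
  have h3 : (nG hD (D.simple i) (1 : F))⁻¹ * xG hD (D.simple i) t * nG hD (D.simple i) (1 : F) =
      xG hD (D.neg (D.simple i)) (η⁻¹ * t) := by
    rw [← h2]; group
  rw [h3] at h
  have h4 : xG hD (D.neg (D.simple i)) (η⁻¹ * t) ∈ D.borelSubgroup F ⊓ D.negUnipotent F :=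
    Subgroup.mem_inf.2 ⟨h, xG_mem_negUnipotent hD
      ((isNegRoot_neg_iff hC hlt).2 (simple_pos hC hi)) _⟩
  rw [(Cfsg.Agent.S1037.result (F := F) D hD).1, Subgroup.mem_bot,
    xG_eq_one_iff hD (neg_lt hC hlt)] at h4
  exact (mul_eq_zero.1 h4).resolve_left (inv_ne_zero hη)

/-- An element with nonzero component at `i` is not carried into `B` by `n_i`. -/
theorem comp_eq_zero_of_conj_mem (hD : InList D) {i : ℕ} (hi : i < D.rank) {u : GL D.Idx F} {t : F}
    (hu : Comp hD i u t)
    (h : (nG hD (D.simple i) (1 : F))⁻¹ * u * nG hD (D.simple i) (1 : F) ∈ D.borelSubgroup F) :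
    t = 0 := by
  apply eq_zero_of_conj_mem hD hi
  set n := nG hD (D.simple i) (1 : F) with hn
  have h1 : n⁻¹ * (u * (xG hD (D.simple i) t)⁻¹) * n ∈ Ui D F i := by
    have := conj_mem_Ui hD hi (inv_mem (nG_mem (F := F) hD i)) hu
    rwa [inv_inv] at this
  have h2 : n⁻¹ * xG hD (D.simple i) t * n = (n⁻¹ * (u * (xG hD (D.simple i) t)⁻¹) * n)⁻¹ *
      (n⁻¹ * u * n) := by group
  rw [h2]
  exact mul_mem (inv_mem (Subgroup.mem_sup_left (Ui_le D F i h1))) h

/-- The component is unique. -/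
theorem comp_unique (hD : InList D) {i : ℕ} (hi : i < D.rank) {u : GL D.Idx F} {s t : F}
    (hs : Comp hD i u s) (ht : Comp hD i u t) : s = t := by
  have h1 := comp_mul hD hi hs (comp_inv hD hi ht)
  rw [mul_inv_cancel] at h1
  have h2 := comp_eq_zero_of_conj_mem hD hi h1 (by
    rw [mul_one, inv_mul_cancel]
    exact one_mem _)
  linear_combination h2

/-! ### The torus -/

/-- The diagonal element `h` acts on the root elements by the character `χ`. -/
structure Chi (hD : InList D) (h : GL D.Idx F) (χ : ℕ → F) : Prop where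
  ne : ∀ s, χ s ≠ 0
  mat : (h : Matrix D.Idx D.Idx F) =
    Matrix.diagonal (Sum.elim (fun _ => (1 : F)) (fun s : Fin D.nroots => χ s.val))
  conj : ∀ s < D.nroots, ∀ t, h * xG hD s t * h⁻¹ = xG hD s (χ s * t)
  prod : ∀ s < D.nroots, χ s = ∏ j ∈ Finset.range D.rank, χ (D.simple j) ^ rt D s j

theorem chi_one (hD : InList D) : Chi hD (1 : GL D.Idx F) (fun _ => 1) where
  ne _ := one_ne_zero
  mat := by
    rw [Units.val_one, ← Matrix.diagonal_one]
    congr 1
    funext v
    rcases v with j | s <;> rfl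
  conj s _ t := by rw [one_mul, inv_one, mul_one, one_mul]
  prod s _ := by simp

theorem chi_mul (hD : InList D) {g h : GL D.Idx F} {χ ψ : ℕ → F} (hg : Chi hD g χ)
    (hh : Chi hD h ψ) : Chi hD (g * h) (fun s => χ s * ψ s) where
  ne s := mul_ne_zero (hg.ne s) (hh.ne s)
  mat := by
    rw [Units.val_mul, hg.mat, hh.mat, Matrix.diagonal_mul_diagonal]
    congr 1
    funext v
    rcases v with j | s
    · exact one_mul 1
    · rfl
  conj s hs t := by
    have h1 : g * h * xG hD s t * (g * h)⁻¹ = g * (h * xG hD s t * h⁻¹) * g⁻¹ := by group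
    rw [h1, hh.conj s hs, hg.conj s hs, mul_assoc]
  prod s hs := by
    simp only [mul_zpow, Finset.prod_mul_distrib]
    rw [← hg.prod s hs, ← hh.prod s hs]

theorem zpow_sum {c : F} (hc : c ≠ 0) (A : Finset ℕ) (f : ℕ → ℤ) :
    c ^ (∑ j ∈ A, f j) = ∏ j ∈ A, c ^ f j := by
  classical
  induction A using Finset.induction_on with
  | empty => simp
  | insert a A ha ih => rw [Finset.sum_insert ha, Finset.prod_insert ha, zpow_add₀ hc, ih]

theorem chi_hG (hD : InList D) {i : ℕ} (hi : i < D.rank) {c : F} (hc : c ≠ 0) :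
    Chi hD (hG hD (D.simple i) c) (fun s => c ^ D.cartan i s) where
  ne s := zpow_ne_zero _ hc
  mat := Cfsg.Agent.S1033.result D hD i hi c hc
  conj s hs t := by
    rw [mul_inv_eq_iff_eq_mul]
    apply Units.ext
    rw [Units.val_mul, Units.val_mul, coe_hG, coe_xG, coe_xG]
    exact Cfsg.Agent.S1032.result D hD i s hi hs c hc t
  prod s hs := by
    have h1 := cartan_eq_sum (checked hD) hi hs
    rw [h1, zpow_sum hc]
    refine Finset.prod_congr rfl fun j _ => ?_
    rw [mul_comm, zpow_mul]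

theorem chi_list (hD : InList D) {c : ℕ → F} (hc : ∀ i < D.rank, c i ≠ 0) :
    ∀ L : List ℕ, (∀ i ∈ L, i < D.rank) →
      ∃ χ, Chi hD (wordG hD (L.flatMap fun i => D.hWord (D.simple i) (c i))) χ
  | [], _ => ⟨_, chi_one hD⟩
  | i :: L, h => by
    obtain ⟨χ, hχ⟩ := chi_list hD hc L fun j hj => h j (List.mem_cons_of_mem i hj)
    rw [List.flatMap_cons, wordG_append]
    exact ⟨_, chi_mul hD (chi_hG hD (h i (by simp)) (hc i (h i (by simp)))) hχ⟩

theorem Chi.eq_one {hD : InList D} {h : GL D.Idx F} {χ : ℕ → F} (hh : Chi hD h χ)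
    (h1 : ∀ i < D.rank, χ (D.simple i) = 1) : h = 1 := by
  apply Units.ext
  rw [hh.mat, Units.val_one, ← Matrix.diagonal_one]
  congr 1
  funext v
  rcases v with j | s
  · rfl
  · show χ s.val = 1
    rw [hh.prod s.val s.2]
    refine Finset.prod_eq_one fun j hj => ?_
    rw [h1 j (Finset.mem_range.1 hj), one_zpow]

theorem exists_chi (hD : InList D) {h : GL D.Idx F} (hh : h ∈ D.diagonalSubgroup F) :
    ∃ χ, Chi hD h χ := by
  obtain ⟨c, hc, h1⟩ := Cfsg.Agent.S1034.result D hD h hh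
  rw [(eq_wordG_iff hD h _).2 h1]
  exact chi_list hD hc _ fun i hi => List.mem_range.1 hi

theorem conj_mem_Ui' {hD : InList D} {h : GL D.Idx F} {χ : ℕ → F} (hh : Chi hD h χ) {i : ℕ}
    {u : GL D.Idx F} (hu : u ∈ Ui D F i) : h * u * h⁻¹ ∈ Ui D F i := by
  let K : Subgroup (GL D.Idx F) := (Ui D F i).comap (MulAut.conj h).toMonoidHom
  have h1 : Ui D F i ≤ K := by
    show Subgroup.closure _ ≤ K
    rw [Subgroup.closure_le]
    rintro g ⟨s, t, hs, hsi, hg⟩
    rw [(eq_xG_iff hD g s t).2 hg]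
    show h * xG hD s t * h⁻¹ ∈ Ui D F i
    rw [hh.conj s hs.1]
    exact xG_mem_Ui hD hs hsi _
  exact h1 hu

theorem Chi.comp {hD : InList D} {h : GL D.Idx F} {χ : ℕ → F} (hh : Chi hD h χ) {i : ℕ}
    (hi : i < D.rank) {u : GL D.Idx F} {t : F} (hu : Comp hD i u t) :
    Comp hD i (h * u * h⁻¹) (χ (D.simple i) * t) := by
  unfold Comp at *
  rw [← hh.conj _ (simple_lt (checked hD) hi)]
  have h1 : h * u * h⁻¹ * (h * xG hD (D.simple i) t * h⁻¹)⁻¹ =
      h * (u * (xG hD (D.simple i) t)⁻¹) * h⁻¹ := by group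
  rw [h1]
  exact conj_mem_Ui' hh hu

/-- Elements of the Borel subgroup. -/
theorem exists_of_mem_borel (hD : InList D) {b : GL D.Idx F} (hb : b ∈ D.borelSubgroup F) :
    ∃ u ∈ D.posUnipotent F, ∃ h ∈ D.diagonalSubgroup F, b = u * h := by
  have h1 := (Cfsg.Agent.S1036.result (F := F) D hD).1
  have h2 : (D.posUnipotent F ⊔ D.diagonalSubgroup F : Subgroup (GL D.Idx F)) =
      D.borelSubgroup F := rfl
  rw [← h2, ← SetLike.mem_coe, Subgroup.coe_mul_of_right_le_normalizer_left _ _ h1] at hb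
  obtain ⟨u, hu, h, hh, rfl⟩ := hb
  exact ⟨u, hu, h, hh, rfl⟩

/-- A regular element of `U`: all the components at the fundamental roots are nonzero. -/
def Reg (hD : InList D) (y : GL D.Idx F) : Prop :=
  y ∈ D.posUnipotent F ∧ ∀ i < D.rank, ∃ t, t ≠ 0 ∧ Comp hD i y t

/-- Conjugates of regular elements under the Borel subgroup. -/
theorem Reg.conj {hD : InList D} {y : GL D.Idx F} (hy : Reg hD y) {b : GL D.Idx F}
    (hb : b ∈ D.borelSubgroup F) : Reg hD (b * y * b⁻¹) := by
  obtain ⟨u, hu, h, hh, rfl⟩ := exists_of_mem_borel hD hb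
  obtain ⟨χ, hχ⟩ := exists_chi hD hh
  have h1 : u * h * y * (u * h)⁻¹ = u * (h * y * h⁻¹) * u⁻¹ := by group
  refine ⟨?_, fun i hi => ?_⟩
  · rw [h1]
    refine mul_mem (mul_mem hu ?_) (inv_mem hu)
    have h2 := (Cfsg.Agent.S1036.result (F := F) D hD).1 hh
    exact (Subgroup.mem_normalizer_iff.1 h2 y).1 hy.1
  · obtain ⟨t, ht, hyt⟩ := hy.2 i hi
    obtain ⟨s, hs⟩ := exists_comp hD hi hu
    refine ⟨χ (D.simple i) * t, mul_ne_zero (hχ.ne _) ht, ?_⟩
    rw [h1]
    have h3 := comp_mul hD hi (comp_mul hD hi hs (hχ.comp hi hyt)) (comp_inv hD hi hs)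
    have h4 : s + χ (D.simple i) * t + -s = χ (D.simple i) * t := by ring
    rwa [h4] at h3

theorem borel_le_group (hD : InList D) : D.borelSubgroup F ≤ D.group F :=
  sup_le (posUnipotent_le_group hD F) (diagonal_le_group hD F)

/-- **The centralizer of a regular unipotent element** lies in the Borel subgroup. -/
theorem mem_borel_of_comm (hD : InList D) {y : GL D.Idx F} (hy : Reg hD y) {g : GL D.Idx F}
    (hg : g ∈ D.group F) (hgy : g * y = y * g) : g ∈ D.borelSubgroup F := by
  obtain ⟨P, hPB, hPN, hPS⟩ := Cfsg.Agent.S1042.result (F := F) D hD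
  have hyG : y ∈ D.group F := posUnipotent_le_group hD F hy.1
  have hyB : (⟨y, hyG⟩ : D.group F) ∈ P.B := by
    rw [hPB, Subgroup.mem_subgroupOf]
    exact Subgroup.mem_sup_left hy.1
  have h1 := RegularBN.centralizer_le (P := P) hyB (by
    intro s hs b hb h2
    rw [hPS] at hs
    obtain ⟨i, hi, hs⟩ := hs
    have hs' : (s : GL D.Idx F) = nG hD (D.simple i) 1 := (eq_nG_iff hD _ _ _).2 hs
    rw [hPB, Subgroup.mem_subgroupOf] at hb h2
    have h3 := (hy.conj (inv_mem hb)).2 i hi
    rw [inv_inv] at h3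
    obtain ⟨t, ht, h4⟩ := h3
    apply ht
    refine comp_eq_zero_of_conj_mem hD hi h4 ?_
    rw [← hs']
    exact h2)
  have h2 : (⟨g, hg⟩ : D.group F) ∈ Subgroup.centralizer ({⟨y, hyG⟩} : Set (D.group F)) := by
    rw [Subgroup.mem_centralizer_singleton_iff]
    exact Subtype.ext hgy
  have h3 := h1 h2
  rw [hPB, Subgroup.mem_subgroupOf] at h3
  exact h3

/-- **The centralizer of a regular unipotent element** lies in `U`. -/
theorem mem_posUnipotent_of_comm (hD : InList D) {y : GL D.Idx F} (hy : Reg hD y)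
    {g : GL D.Idx F} (hg : g ∈ D.group F) (hgy : g * y = y * g) : g ∈ D.posUnipotent F := by
  have hgB := mem_borel_of_comm hD hy hg hgy
  obtain ⟨u, hu, h, hh, rfl⟩ := exists_of_mem_borel hD hgB
  obtain ⟨χ, hχ⟩ := exists_chi hD hh
  have h1 : h = 1 := by
    refine hχ.eq_one fun i hi => ?_
    obtain ⟨t, ht, hyt⟩ := hy.2 i hi
    obtain ⟨s, hs⟩ := exists_comp hD hi hu
    have h3 := comp_mul hD hi (comp_mul hD hi hs (hχ.comp hi hyt)) (comp_inv hD hi hs)
    have h5 : u * (h * y * h⁻¹) * u⁻¹ = y := by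
      calc u * (h * y * h⁻¹) * u⁻¹ = (u * h * y) * (u * h)⁻¹ := by group
        _ = y := by rw [hgy, mul_inv_cancel_right]
    rw [h5] at h3
    have h4 := comp_unique hD hi h3 hyt
    have h6 : (χ (D.simple i) - 1) * t = 0 := by linear_combination h4
    exact sub_eq_zero.1 ((mul_eq_zero.1 h6).resolve_right ht)
  rw [h1, mul_one]
  exact hu

/-- Centralizers of regular unipotent elements have odd order. -/
theorem odd_centralizer [Fintype F] (hF : Odd (Fintype.card F)) (hD : InList D)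
    {K : Subgroup (GL D.Idx F)} (hK : K ≤ D.group F) {y : GL D.Idx F} (hyK : y ∈ K)
    (hy : Reg hD y) : Odd (Nat.card (Subgroup.centralizer ({⟨y, hyK⟩} : Set K))) := by
  let f : Subgroup.centralizer ({⟨y, hyK⟩} : Set K) →* D.posUnipotent F :=
    { toFun := fun g => ⟨g.1.1, mem_posUnipotent_of_comm hD hy (hK g.1.2)
        (congrArg Subtype.val (Subgroup.mem_centralizer_singleton_iff.1 g.2))⟩
      map_one' := rfl
      map_mul' := fun _ _ => rfl }
  have hf : Function.Injective f := by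
    intro a b h
    have h1 : (f a).1 = (f b).1 := congrArg Subtype.val h
    exact Subtype.ext (Subtype.ext h1)
  have h1 := Subgroup.card_dvd_of_injective f hf
  rw [Cfsg.Agent.S1027.result D hD] at h1
  exact (hF.pow).of_dvd_nat h1

/-! ### Regular elements as products -/

/-- `a b` is real if an element inverts `a` and `b`. -/
theorem isConj_inv {G : Type*} [Group G] {a b h : G} (ha : h * a * h⁻¹ = a⁻¹)
    (hb : h * b * h⁻¹ = b⁻¹) : IsConj (a * b) (a * b)⁻¹ := by
  refine isConj_iff.2 ⟨a * h, ?_⟩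
  have h1 : a * h * (a * b) * (a * h)⁻¹ = a * ((h * a * h⁻¹) * (h * b * h⁻¹)) * a⁻¹ := by group
  rw [h1, ha, hb]
  group

theorem comp_simple_ne (hD : InList D) {i j : ℕ} (hi : i < D.rank) (hj : j < D.rank) (hij : j ≠ i)
    (t : F) : Comp hD i (xG hD (D.simple j) t) 0 :=
  comp_root hD (simple_pos (checked hD) hj)
    (fun h => hij (simple_inj (checked hD) hj hi h)) t

end Cfsg.Agent.H610.ChevRegular
end
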