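import Mathlib
import Cfsg.Prelude.Def_Characters
import Cfsg.Agent.H610.Twist
import Cfsg.Agent.CharactersDeep.CosetAverage
import Cfsg.Agent.CharactersDeep.PrimeIndex
import Cfsg.Agent.Characters.Brauer
import Cfsg.Agent.S0161
import Cfsg.Agent.S0174
import Cfsg.Agent.S0193
import Cfsg.Agent.S0886
set_option linter.all false

/-!
# Fixed characters and normal subgroups of odd index

`Tw G k e`: the power map `g ↦ g ^ k` has 2-power order and inverts the elements of odd order.
For a normal subgroup `N` of odd index: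

* `unique_over`: at most one fixed irreducible character lies over a given character of `N`;
* `exists_over`: a fixed irreducible character of `N` lies under a fixed character of `G`.
-/

set_option autoImplicit false

namespace Cfsg.Agent.H610.OddIndex

open Cfsg Cfsg.Agent.Characters Cfsg.Agent.H610.Twist
open scoped ComplexConjugate

universe u

/-- The power map `g ↦ g ^ k` has 2-power order and inverts the elements of odd order. -/
structure Tw (G : Type*) [Group G] (k e : ℕ) : Prop where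
  cop : Nat.Coprime k (Nat.card G)
  ord : k ^ (2 ^ e) ≡ 1 [MOD Nat.card G]
  odd : ∀ g : G, Odd (orderOf g) → g ^ k = g⁻¹

variable {G : Type u} [Group G] {k e : ℕ}

theorem Tw.sub (h : Tw G k e) [Finite G] (H : Subgroup G) : Tw H k e where
  cop := coprime_subgroup h.cop H
  ord := h.ord.of_dvd (Subgroup.card_subgroup_dvd_card H)
  odd := by
    intro g hg
    apply Subtype.ext
    rw [Subgroup.coe_pow, Subgroup.coe_inv]
    exact h.odd g (by rwa [Subgroup.orderOf_coe])

/-- modulo a normal subgroup of odd index the power map is inversion -/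
theorem Tw.pow_succ_mem (h : Tw G k e) [Finite G] (N : Subgroup G) [N.Normal] (hidx : Odd N.index)
    (g : G) : g ^ (k + 1) ∈ N := by
  obtain ⟨a, m, hm, hgm⟩ : ∃ a m, Odd m ∧ orderOf g = 2 ^ a * m := by
    obtain ⟨a, m, hm, hgm⟩ := Nat.exists_eq_two_pow_mul_odd (orderOf_pos g).ne'
    exact ⟨a, m, hm, hgm⟩
  have h1 : orderOf (g ^ 2 ^ a) = m := by
    rw [orderOf_pow, hgm, Nat.gcd_eq_right (Dvd.intro _ rfl),
      Nat.mul_div_cancel_left _ (pow_pos (by norm_num) a)]
  have h2 := h.odd (g ^ 2 ^ a) (by rw [h1]; exact hm)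
  have h3 : (g ^ (k + 1)) ^ 2 ^ a = 1 := by
    rw [← pow_mul, mul_comm, pow_mul, pow_succ, h2, inv_mul_cancel]
  have h4 : ((g ^ (k + 1) : G) : G ⧸ N) ^ 2 ^ a = 1 := by
    rw [← QuotientGroup.mk_pow, h3, QuotientGroup.mk_one]
  have h5 : orderOf ((g ^ (k + 1) : G) : G ⧸ N) ∣ 2 ^ a := orderOf_dvd_of_pow_eq_one h4
  have h6 : orderOf ((g ^ (k + 1) : G) : G ⧸ N) ∣ N.index := orderOf_dvd_natCard _
  have h7 : Nat.Coprime (2 ^ a) N.index := (Nat.coprime_two_left.2 hidx).pow_left a
  have h8 := Nat.eq_one_of_dvd_coprimes h7 h5 h6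
  rw [orderOf_eq_one_iff] at h8
  exact (QuotientGroup.eq_one_iff _).1 h8

/-- **Parity.** For a real character with the normal subgroup `N` of odd index in the kernel, the
multiplicity of the principal character is congruent to the degree modulo two. -/
theorem parity [Fintype G] (N : Subgroup G) [N.Normal] (hidx : Odd N.index) {f : G → ℂ}
    (hf : IsCharacter G f) (hN : ∀ (n : N) (g : G), f ((n : G) * g) = f g)
    (hreal : ∀ g, f g⁻¹ = f g) {a b : ℕ} (ha : classInner f (fun _ => 1) = a) (hb : f 1 = b) :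
    a ≡ b [MOD 2] := by
  classical
  have : Fintype N := Fintype.ofFinite N
  have := Core.finite_irr (G := G)
  have := Fintype.ofFinite (IrrCharacter G)
  obtain ⟨m, hm⟩ := Core.exists_nat_comb hf
  have hmc : ∀ χ : IrrCharacter G, classInner f (χ : G → ℂ) = m χ := by
    intro χ
    rw [hm]
    exact Core.classInner_sum_nsmul_irr m χ
  choose d hdpos hd using fun χ : IrrCharacter G => Core.isIrr_apply_one χ.2
  -- complex conjugation
  let cj : IrrCharacter G → IrrCharacter G := fun χ =>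
    ⟨fun g => conj ((χ : G → ℂ) g), Core.isIrr_conj χ.2⟩
  have hcj : ∀ χ : IrrCharacter G, cj (cj χ) = χ := by
    intro χ
    apply Subtype.ext
    funext g
    simp [cj]
  have hfr : ∀ g, conj (f g) = f g := by
    intro g
    rw [← Core.isCharacter_apply_inv hf g, hreal]
  have hmcj : ∀ χ, m (cj χ) = m χ := by
    intro χ
    have h1 := hmc (cj χ)
    have h2 := hmc χ
    have h3 : classInner f (cj χ : G → ℂ) = conj (classInner f (χ : G → ℂ)) := by
      rw [Core.classInner_def, Core.classInner_def, map_mul, map_inv₀, map_sum]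
      simp only [map_natCast, map_mul, Complex.conj_conj, hfr]
      congr 1
      refine Finset.sum_congr rfl fun g _ => ?_
      show f g * conj (conj ((χ : G → ℂ) g)) = _
      rw [Complex.conj_conj]
    rw [h1, h2, Complex.conj_natCast] at h3
    exact_mod_cast h3
  have hdcj : ∀ χ, d (cj χ) = d χ := by
    intro χ
    have h1 := hd (cj χ)
    have h2 := hd χ
    have h3 : (cj χ : G → ℂ) 1 = conj ((χ : G → ℂ) 1) := rfl
    rw [h1, h2, Complex.conj_natCast] at h3
    exact_mod_cast h3
  let one : IrrCharacter G := ⟨fun _ => 1, Core.isIrr_one⟩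
  -- a real constituent is principal
  have hkey : ∀ χ : IrrCharacter G, m χ ≠ 0 → cj χ = χ → χ = one := by
    intro χ hmχ hχ
    have hsum : ∑ n : N, (χ : G → ℂ) n ≠ 0 := by
      intro h0
      have h1 : IsCharacter G (fun g => (Nat.card N : ℂ)⁻¹ * ∑ n : N, (χ : G → ℂ) ((n : G) * g)) :=
        CharactersDeep.CosetAverage.isCharacter_cosetAverage N (Core.isIrr_isCharacter χ.2)
      have h2 : ∀ g, (Nat.card N : ℂ)⁻¹ * ∑ n : N, (χ : G → ℂ) ((n : G) * g) = 0 := by
        obtain ⟨r, ρ, hρ⟩ := h1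
        have h3 := congrFun hρ 1
        rw [Representation.char_one] at h3
        simp only [mul_one] at h3
        rw [h0, mul_zero, Module.finrank_fin_fun] at h3
        have h4 : r = 0 := by exact_mod_cast h3
        subst h4
        intro g
        have h5 := congrFun hρ g
        rw [← h5, Representation.character]
        have h6 : ρ g = 0 := by
          apply LinearMap.ext
          intro x
          funext i
          exact i.elim0
        rw [h6, map_zero]
      apply hmχ
      have h3 := hmc χ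
      have h4 : ∑ g, (χ : G → ℂ) g * conj (f g) = 0 := by
        rw [CharactersDeep.CosetAverage.sum_mul_invariant N (χ : G → ℂ) (fun g => conj (f g))
          (fun n g => by rw [hN])]
        exact Finset.sum_eq_zero fun g _ => by rw [h2 g, zero_mul]
      have h5 : classInner (χ : G → ℂ) f = 0 := by
        rw [Core.classInner_def, h4, mul_zero]
      have h6 := Core.classInner_conj_symm (χ : G → ℂ) f
      rw [h5, h3, map_zero] at h6
      exact_mod_cast h6.symm
    obtain ⟨χ', hχ'⟩ := Blocks.Deflate.exists_deflation N (χ : G → ℂ) χ.2 hsum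
    have h1 : (χ' : G ⧸ N → ℂ) = fun _ => 1 := by
      refine Cfsg.Agent.S0161.result hidx χ' ?_
      intro g
      obtain ⟨g, rfl⟩ := QuotientGroup.mk_surjective g
      have h2 : (χ : G → ℂ) g = (χ' : G ⧸ N → ℂ) (g : G ⧸ N) := congrFun hχ' g
      rw [← h2]
      have h3 : conj ((χ : G → ℂ) g) = (χ : G → ℂ) g := congrFun (congrArg Subtype.val hχ) g
      exact Complex.conj_eq_iff_im.1 h3
    apply Subtype.ext
    rw [hχ', h1]
    rfl
  -- the sum
  have hsum : ((b : ℕ) : ZMod 2) = ∑ χ : IrrCharacter G, ((m χ * d χ : ℕ) : ZMod 2) := by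
    have h1 : (b : ℂ) = ((∑ χ : IrrCharacter G, m χ * d χ : ℕ) : ℂ) := by
      rw [← hb, hm, Finset.sum_apply]
      push_cast
      refine Finset.sum_congr rfl fun χ _ => ?_
      rw [Pi.smul_apply, nsmul_eq_mul, hd]
    have h2 : b = ∑ χ : IrrCharacter G, m χ * d χ := by exact_mod_cast h1
    rw [h2]
    push_cast
    rfl
  have hinv : ∑ χ ∈ Finset.univ.erase one, ((m χ * d χ : ℕ) : ZMod 2) = 0 := by
    refine Finset.sum_involution (fun χ _ => cj χ) ?_ ?_ ?_ ?_
    · intro χ _
      rw [hmcj, hdcj]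
      exact CharTwo.add_self_eq_zero _
    · intro χ hχ hne h
      have h1 : m χ ≠ 0 := by
        intro h0
        apply hne
        rw [h0, zero_mul, Nat.cast_zero]
      exact (Finset.mem_erase.1 hχ).1 (hkey χ h1 h)
    · intro χ hχ
      refine Finset.mem_erase.2 ⟨fun h => (Finset.mem_erase.1 hχ).1 ?_, Finset.mem_univ _⟩
      rw [← hcj χ, h]
      apply Subtype.ext
      funext g
      simp [cj, one]
    · intro χ _
      exact hcj χ
  rw [← Finset.add_sum_erase _ _ (Finset.mem_univ one), hinv, add_zero] at hsum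
  have h1 : m one = a := by
    have h2 := hmc one
    have h3 : classInner f (one : G → ℂ) = classInner f (fun _ => 1) := rfl
    rw [h3, ha] at h2
    exact_mod_cast h2.symm
  have h2 : d one = 1 := by
    have h3 := hd one
    have h4 : (one : G → ℂ) 1 = 1 := rfl
    rw [h4] at h3
    exact_mod_cast h3.symm
  rw [h1, h2, mul_one] at hsum
  exact (ZMod.natCast_eq_natCast_iff _ _ _).1 hsum.symm

/-- The parity of inner products of fixed characters. -/
theorem parity_inner [Fintype G] (h : Tw G k e) (N : Subgroup G) [N.Normal] [Fintype N]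
    (hidx : Odd N.index) (χ₁ χ₂ : IrrCharacter G)
    (h₁ : ∀ g : G, (χ₁ : G → ℂ) (g ^ k) = (χ₁ : G → ℂ) g)
    (h₂ : ∀ g : G, (χ₂ : G → ℂ) (g ^ k) = (χ₂ : G → ℂ) g) {a b : ℕ}
    (ha : classInner (χ₁ : G → ℂ) (χ₂ : G → ℂ) = a)
    (hb : classInner (fun n : N => (χ₁ : G → ℂ) n) (fun n : N => (χ₂ : G → ℂ) n) = b) :
    a ≡ b [MOD 2] := by
  classical
  set ψ : G → ℂ := fun g => (χ₁ : G → ℂ) g * conj ((χ₂ : G → ℂ) g) with hψ
  have hψc : IsCharacter G ψ :=
    Core.isCharacter_mul (Core.isIrr_isCharacter χ₁.2) (Core.isCharacter_conj (Core.isIrr_isCharacter χ₂.2))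
  set f : G → ℂ := fun g => (Nat.card N : ℂ)⁻¹ * ∑ n : N, ψ ((n : G) * g) with hf
  have hfc : IsCharacter G f := CharactersDeep.CosetAverage.isCharacter_cosetAverage N hψc
  have hψk : ∀ g, ψ (g ^ k) = ψ g := by
    intro g
    rw [hψ]
    simp only [h₁, h₂]
  have hNinv : ∀ (n : N) (g : G), f ((n : G) * g) = f g := by
    intro n g
    exact CharactersDeep.CosetAverage.cosetAverage_invariant N ψ n g
  have hfk : ∀ g, f (g ^ k) = f g := by
    intro g
    rw [hf]
    simp only
    congr 1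
    have hmem : ∀ n : N, ((n : G) * g) ^ k * (g ^ k)⁻¹ ∈ N := by
      intro n
      have h1 : ((((n : G) * g) ^ k * (g ^ k)⁻¹ : G) : G ⧸ N) = 1 := by
        rw [QuotientGroup.mk_mul, QuotientGroup.mk_pow, QuotientGroup.mk_mul,
          (QuotientGroup.eq_one_iff (n : G)).2 n.2, one_mul, QuotientGroup.mk_inv,
          QuotientGroup.mk_pow, mul_inv_cancel]
      exact (QuotientGroup.eq_one_iff _).1 h1
    let φ : N → N := fun n => ⟨((n : G) * g) ^ k * (g ^ k)⁻¹, hmem n⟩
    have hφ : Function.Bijective φ := by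
      apply Finite.injective_iff_bijective.1
      intro n n' hnn
      have h1 : ((n : G) * g) ^ k * (g ^ k)⁻¹ = ((n' : G) * g) ^ k * (g ^ k)⁻¹ :=
        congrArg Subtype.val hnn
      have h2 := mul_right_cancel h1
      have h3 := (powCoprime h.cop.symm).injective h2
      exact Subtype.ext (mul_right_cancel h3)
    symm
    refine Fintype.sum_equiv (Equiv.ofBijective φ hφ) _ _ fun n => ?_
    rw [← hψk ((n : G) * g)]
    congr 1
    show _ = ((n : G) * g) ^ k * (g ^ k)⁻¹ * g ^ k
    rw [inv_mul_cancel_right]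
  have hreal : ∀ g, f g⁻¹ = f g := by
    intro g
    have h1 := h.pow_succ_mem N hidx g
    have h2 : g ^ k = (⟨g ^ (k + 1), h1⟩ : N) * g⁻¹ := by
      show g ^ k = g ^ (k + 1) * g⁻¹
      rw [pow_succ, mul_inv_cancel_right]
    rw [← hfk g, h2, hNinv]
  refine parity N hidx hfc hNinv hreal ?_ ?_
  · rw [← ha, Core.classInner_def, Core.classInner_def]
    congr 1
    have h1 := CharactersDeep.CosetAverage.sum_mul_invariant N ψ (fun _ => 1) (fun _ _ => rfl)
    simp only [mul_one, map_one] at h1 ⊢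
    rw [← h1]
  · rw [← hb, Core.classInner_def, hf]
    simp only [mul_one, hψ]

/-- A congruence class determines equality of irreducible characters. -/
theorem eq_of_inner_odd [Fintype G] {χ₁ χ₂ : IrrCharacter G} {a : ℕ}
    (ha : classInner (χ₁ : G → ℂ) (χ₂ : G → ℂ) = a) (ho : a ≡ 1 [MOD 2]) : χ₁ = χ₂ := by
  classical
  by_contra hne
  rw [Core.classInner_irr_ne χ₁.2 χ₂.2 (fun h => hne (Subtype.ext h))] at ha
  have : a = 0 := by exact_mod_cast ha.symm
  rw [this] at ho
  exact absurd ho (by decide)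

/-- **Uniqueness**: at most one fixed irreducible character lies over a character of a normal
subgroup of odd index; and its multiplicity is odd. -/
theorem unique_over [Fintype G] (h : Tw G k e) (N : Subgroup G) [hN : N.Normal] [Fintype N]
    (hidx : Odd N.index) (θ : IrrCharacter N) (χ₁ χ₂ : IrrCharacter G)
    (h₁ : ∀ g : G, (χ₁ : G → ℂ) (g ^ k) = (χ₁ : G → ℂ) g)
    (h₂ : ∀ g : G, (χ₂ : G → ℂ) (g ^ k) = (χ₂ : G → ℂ) g)
    (o₁ : classInner (fun n : N => (χ₁ : G → ℂ) n) (θ : N → ℂ) ≠ 0)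
    (o₂ : classInner (fun n : N => (χ₂ : G → ℂ) n) (θ : N → ℂ) ≠ 0) : χ₁ = χ₂ := by
  classical
  have hc : ∀ χ : IrrCharacter G, IsCharacter N (fun n : N => (χ : G → ℂ) n) := fun χ =>
    Clifford.isCharacter_restrict N (Core.isIrr_isCharacter χ.2)
  obtain ⟨a, ha⟩ := Core.classInner_isNat (Core.isIrr_isCharacter χ₁.2) (Core.isIrr_isCharacter χ₂.2)
  obtain ⟨c, hc12⟩ := Core.classInner_isNat (hc χ₁) (hc χ₂)
  obtain ⟨c₁, hc11⟩ := Core.classInner_isNat (hc χ₁) (hc χ₁)
  obtain ⟨c₂, hc22⟩ := Core.classInner_isNat (hc χ₂) (hc χ₂)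
  obtain ⟨e₁, he₁⟩ := Core.classInner_isNat (hc χ₁) (Core.isIrr_isCharacter θ.2)
  obtain ⟨e₂, he₂⟩ := Core.classInner_isNat (hc χ₂) (Core.isIrr_isCharacter θ.2)
  have p1 := parity_inner h N hidx χ₁ χ₁ h₁ h₁ (a := 1) (by
    rw [Core.classInner_irr_self χ₁.2, Nat.cast_one]) hc11
  have p2 := parity_inner h N hidx χ₂ χ₂ h₂ h₂ (a := 1) (by
    rw [Core.classInner_irr_self χ₂.2, Nat.cast_one]) hc22
  have p3 := parity_inner h N hidx χ₁ χ₂ h₁ h₂ ha hc12
  -- Clifford
  have q1 := Cfsg.Agent.S0174.result N hN (χ₁ : G → ℂ) χ₁.2 (θ : N → ℂ) θ.2 o₁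
  have q2 := Cfsg.Agent.S0174.result N hN (χ₂ : G → ℂ) χ₂.2 (θ : N → ℂ) θ.2 o₂
  set Θ : N → ℂ := ∑ᶠ ψ ∈ {ψ : N → ℂ | ∃ g : G,
    ψ = fun n : N => (θ : N → ℂ) ⟨g * n * g⁻¹, hN.conj_mem n n.2 g⟩}, ψ with hΘ
  rw [he₁] at q1
  rw [he₂] at q2
  have hi : ∀ s t : ℕ, classInner ((s : ℂ) • Θ) ((t : ℂ) • Θ) = s * t * classInner Θ Θ := by
    intro s t
    rw [Core.classInner_smul_left, Core.classInner_smul_right, Complex.conj_natCast]
    ring
  have r12 := hi e₁ e₂
  have r11 := hi e₁ e₁
  have r22 := hi e₂ e₂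
  rw [← q1, ← q2, hc12] at r12
  rw [← q1, hc11] at r11
  rw [← q2, hc22] at r22
  have hmul : c₁ * c₂ = c * c := by
    have h1 : (c₁ : ℂ) * c₂ = c * c := by rw [r11, r22, r12]; ring
    exact_mod_cast h1
  apply eq_of_inner_odd ha
  refine p3.trans ?_
  have h1 : Odd (c * c) := by
    rw [← hmul]
    exact (Nat.odd_iff.2 p1.symm).mul (Nat.odd_iff.2 p2.symm)
  exact Nat.odd_iff.1 (Nat.odd_mul.1 h1).1

/-- The restriction of an irreducible character lying over an invariant character. -/
theorem restrict_eq_smul [Fintype G] (N : Subgroup G) [hN : N.Normal] [Fintype N] {χ : G → ℂ}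
    (hχ : IsIrrCharacter G χ) {θ : N → ℂ} (hθ : IsIrrCharacter N θ)
    (hinv : ∀ (g : G) (n : N), θ ⟨g * n * g⁻¹, hN.conj_mem (n : G) n.2 g⟩ = θ n)
    (ho : classInner (fun n : N => χ n) θ ≠ 0) :
    (fun n : N => χ n) = classInner (fun n : N => χ n) θ • θ := by
  have h1 := Cfsg.Agent.S0174.result N hN χ hχ θ hθ ho
  have h2 : {ψ : N → ℂ | ∃ g : G, ψ = fun n : N => θ ⟨g * n * g⁻¹, hN.conj_mem n n.2 g⟩} = {θ} := by
    ext ψ
    constructor
    · rintro ⟨g, hg⟩
      show ψ = θ
      rw [hg]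
      funext n
      exact hinv g n
    · intro h
      exact ⟨1, by rw [Set.mem_singleton_iff.1 h]; funext n; exact (hinv 1 n).symm⟩
  rw [h2, finsum_mem_singleton] at h1
  exact h1

/-- **Existence**: a fixed irreducible character of a normal subgroup of odd index lies under a
fixed irreducible character. -/
theorem exists_over [Fintype G] (h : Tw G k e) (N : Subgroup G) [hN : N.Normal] [Fintype N]
    (hidx : Odd N.index) (θ : IrrCharacter N) (hθ : ∀ n : N, (θ : N → ℂ) (n ^ k) = (θ : N → ℂ) n) :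
    ∃ χ : IrrCharacter G, classInner (fun n : N => (χ : G → ℂ) n) (θ : N → ℂ) ≠ 0 ∧
      ∀ g : G, (χ : G → ℂ) (g ^ k) = (χ : G → ℂ) g := by
  classical
  have := Core.finite_irr (G := G)
  have := Fintype.ofFinite (IrrCharacter G)
  have hc : ∀ χ : IrrCharacter G, IsCharacter N (fun n : N => (χ : G → ℂ) n) := fun χ =>
    Clifford.isCharacter_restrict N (Core.isIrr_isCharacter χ.2)
  choose c hc' using fun χ : IrrCharacter G =>
    Core.classInner_isNat (hc χ) (Core.isIrr_isCharacter θ.2)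
  -- the sum of the squares
  have hind : IsCharacter G (indFun N (θ : N → ℂ)) :=
    Characters.Brauer.isCharacter_indFun N (Core.isIrr_isCharacter θ.2)
  have hcl := Core.isCharacter_isClassFunction hind
  have hrec : ∀ χ : IrrCharacter G, classInner (indFun N (θ : N → ℂ)) (χ : G → ℂ) = c χ := by
    intro χ
    rw [Characters.Brauer.classInner_indFun N inferInstance (θ : N → ℂ) (χ : G → ℂ)
      (Core.isIrr_isClassFunction χ.2)]
    have h1 := Core.classInner_conj_symm (fun n : N => (χ : G → ℂ) n) (θ : N → ℂ)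
    rw [hc' χ, Complex.conj_natCast] at h1
    exact h1.symm
  have hsq : classInner (indFun N (θ : N → ℂ)) (indFun N (θ : N → ℂ)) = ((∑ χ, c χ ^ 2 : ℕ) : ℂ) := by
    have h1 : indFun N (θ : N → ℂ) = ∑ χ : IrrCharacter G, (c χ : ℂ) • (χ : G → ℂ) := by
      conv_lhs => rw [Core.classFunction_eq_sum hcl]
      exact Finset.sum_congr rfl fun χ _ => by rw [hrec]
    rw [h1, Core.classInner_sum_smul_sum_smul]
    push_cast
    refine Finset.sum_congr rfl fun χ _ => ?_
    rw [Complex.conj_natCast, pow_two]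
  have h193 := Cfsg.Agent.S0193.result N (θ : N → ℂ) θ.2
  rw [hsq] at h193
  have hT : Nat.card {g : G // ∀ n : N, (θ : N → ℂ) ⟨g * n * g⁻¹, hN.conj_mem n n.2 g⟩ =
      (θ : N → ℂ) n} = Nat.card (Cfsg.Agent.H686.CharKit.inertia N θ) := by
    refine Nat.card_congr (Equiv.subtypeEquivRight fun g => ?_)
    rw [Cfsg.Agent.H686.CharKit.mem_inertia]
    constructor
    · intro h n n' hn
      rw [← h n]
      exact congrArg (θ : N → ℂ) (Subtype.ext hn)
    · intro h n
      exact h n _ rfl
  rw [hT] at h193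
  have h3 : Nat.card N * ∑ χ, c χ ^ 2 = Nat.card (Cfsg.Agent.H686.CharKit.inertia N θ) := by
    exact_mod_cast h193
  have hodd : Odd (∑ χ, c χ ^ 2) := by
    have h4 := Subgroup.card_mul_index (Cfsg.Agent.H686.CharKit.inertia N θ)
    have h5 := Subgroup.card_mul_index N
    rw [← h3, ← h5, mul_assoc] at h4
    have h6 := Nat.eq_of_mul_eq_mul_left Nat.card_pos h4
    rw [← h6] at hidx
    exact (Nat.odd_mul.1 hidx).1
  -- the twist preserves the multiplicities
  have hcpw : ∀ χ, c (pw h.cop χ) = c χ := by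
    intro χ
    have h1 := classInner_pow (coprime_subgroup h.cop N) (fun n : N => (χ : G → ℂ) n) (θ : N → ℂ)
    have h2 : (fun n : N => (θ : N → ℂ) (n ^ k)) = (θ : N → ℂ) := funext hθ
    have h3 := hc' (pw h.cop χ)
    have h4 : (fun n : N => (pw h.cop χ : G → ℂ) n) = fun n : N => (χ : G → ℂ) ((n ^ k : N) : G) := by
      funext n
      rw [pw_apply, Subgroup.coe_pow]
    rw [h4] at h3
    rw [h2] at h1
    rw [h1, hc' χ] at h3
    exact_mod_cast h3.symm
  let O := {χ : IrrCharacter G // Odd (c χ)}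
  have hO : ¬ 2 ∣ Fintype.card O := by
    have h1 : ((∑ χ, c χ ^ 2 : ℕ) : ZMod 2) = (Fintype.card O : ZMod 2) := by
      rw [Fintype.card_subtype, Finset.card_filter]
      push_cast
      refine Finset.sum_congr rfl fun χ _ => ?_
      split_ifs with hχ
      · rw [(ZMod.natCast_eq_one_iff_odd).2 hχ, one_pow]
      · rw [(ZMod.natCast_eq_zero_iff_even).2 (Nat.not_odd_iff_even.1 hχ)]
        norm_num
    rw [(ZMod.natCast_eq_one_iff_odd).2 hodd] at h1
    rw [← even_iff_two_dvd, Nat.not_even_iff_odd]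
    exact (ZMod.natCast_eq_one_iff_odd).1 h1.symm
  let s : O → O := fun χ => ⟨pw h.cop χ.1, by rw [hcpw]; exact χ.2⟩
  have hsinj : Function.Injective s := by
    intro ψ φ h'
    exact Subtype.ext (pw_injective h.cop (congrArg Subtype.val h'))
  let σ : Equiv.Perm O := Equiv.ofBijective s (Finite.injective_iff_bijective.1 hsinj)
  have hσ : σ ^ 2 ^ e = 1 := by
    apply Equiv.ext
    intro ψ
    apply Subtype.ext
    have h1 : ∀ (m : ℕ) (ψ : O), ((σ ^ m) ψ : O).1 = (pw h.cop)^[m] ψ.1 := by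
      intro m
      induction m with
      | zero => intro ψ; rfl
      | succ m ih =>
        intro ψ
        rw [pow_succ, Equiv.Perm.mul_apply, ih, Function.iterate_succ_apply]
        rfl
    rw [h1, pw_iterate_eq h.cop h.ord]
    rfl
  obtain ⟨ψ, hψ⟩ := Equiv.Perm.exists_fixed_point_of_prime (p := 2) hO hσ
  obtain ⟨⟨ψ, hψO⟩, hψ⟩ : ∃ ψ : O, σ ψ = ψ := ⟨ψ, hψ⟩
  have h1 : pw h.cop ψ = ψ := congrArg Subtype.val hψ
  refine ⟨ψ, ?_, (fixed_iff h.cop ψ).1 h1⟩
  rw [hc' ψ]
  intro h2
  have h3 : c ψ = 0 := by exact_mod_cast h2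
  rw [h3] at hψO
  exact absurd hψO (by decide)

/-- A fixed character lying over an invariant character of a normal subgroup of odd prime index
extends it. -/
theorem ext_of_prime_index [Fintype G] (N : Subgroup G) [hN : N.Normal] [Fintype N]
    {p : ℕ} (hp : p.Prime) (hidx : N.index = p) {χ : G → ℂ}
    (hχ : IsIrrCharacter G χ) {θ : N → ℂ} (hθ : IsIrrCharacter N θ)
    (hinv : ∀ (g : G) (n : N), θ ⟨g * n * g⁻¹, hN.conj_mem (n : G) n.2 g⟩ = θ n)
    (ho : classInner (fun n : N => χ n) θ ≠ 0) : ∀ n : N, χ n = θ n := by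
  have h1 := restrict_eq_smul N hχ hθ hinv ho
  obtain ⟨m, hm⟩ := Core.classInner_isNat
    (Clifford.isCharacter_restrict N (Core.isIrr_isCharacter hχ)) (Core.isIrr_isCharacter hθ)
  rw [hm] at h1
  have h2 := CharactersDeep.PrimeIndex.norm_restrict_prime_index N hp hidx hχ
  rw [h1, Core.classInner_smul_left, Core.classInner_smul_right, Core.classInner_irr_self hθ,
    Complex.conj_natCast, mul_one] at h2
  have h3 : m = 1 := by
    rcases h2 with h2 | h2
    · have h4 : m * m = 1 := by exact_mod_cast h2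
      exact Nat.eq_one_of_mul_eq_one_right h4
    · have h4 : m * m = p := by exact_mod_cast h2
      rcases (Nat.dvd_prime hp).1 (Dvd.intro _ h4) with h5 | h5
      · exact h5
      · rw [h5] at h4
        exact absurd (Nat.eq_of_mul_eq_mul_left hp.pos (h4.trans (mul_one p).symm)) hp.one_lt.ne'
  intro n
  have h4 := congrFun h1 n
  rw [h3] at h4
  simpa using h4

end Cfsg.Agent.H610.OddIndex
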