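import Cfsg.Agent.H610.OddOC
import Cfsg.Agent.AschCrit.CommFour.Orbits_m3
import Cfsg.Agent.SmallSimple.SelfCentPrime
import Cfsg.Agent.H610.ChevRegular
import Cfsg.Agent.S1035
import Cfsg.Agent.S1059
import Cfsg.Agent.FastGrp
import Cfsg.Agent.Prune
set_option linter.all false
prune_inst 0x7f00000000000000000000000000000000000000000000000000000000000000000000000000000000000000000000000000000000000000000000000000000000000000000000000000000000000000003fffffffffffffffffffffffffffbeffbdffffffff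
open scoped Cfsg.Agent.FastGrp

-- part: H610/OddReg
section
/-!
# Automorphism stable sets of real elements of odd order forming an odd number of classes

* `OcSet N`: there is a set `Y` of real elements `≠ 1` of odd order with centralizers of odd order,
  stable under all automorphisms of `N`, which is the union of an odd number of conjugacy classes;
* `OcSet.of_ocAt`: the elements of `Yset p N`;
* `ocSet_of`: the criterion by elements contained in only one Sylow subgroup.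
-/

set_option autoImplicit false

namespace Cfsg.Agent.H610.OddReg

open Subgroup Cfsg.Agent.H610.OddOC

/-- An automorphism stable set of real elements `≠ 1` of odd order with centralizers of odd order,
forming an odd number of classes. -/
def OcSet (N : Type*) [Group N] : Prop :=
  ∃ Y : Set N, (∀ a : MulAut N, ∀ y ∈ Y, a y ∈ Y) ∧
    (∀ y ∈ Y, y ≠ 1 ∧ Odd (orderOf y) ∧ IsConj y y⁻¹ ∧
      Odd (Nat.card (centralizer ({y} : Set N)))) ∧
    Odd (Nat.card {c : ConjClasses N // ∃ y ∈ Y, c = ConjClasses.mk y})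

theorem OcSet.of_ocAt {N : Type*} [Group N] {p : ℕ} (h : OcAt p N) : OcSet N := by
  obtain ⟨hp, hp2, h3, h4⟩ := h
  refine ⟨Yset p N, fun a y hy => (mem_Yset_iff a y).2 hy, fun y hy => ⟨hy.1, ?_, h3 y hy, hy.2.2⟩,
    h4⟩
  obtain ⟨k, hk⟩ := hy.2.1
  exact ((hp.odd_of_ne_two hp2).pow).of_dvd_nat (orderOf_dvd_of_pow_eq_one hk)

theorem OcSet.of_equiv {N M : Type*} [Group N] [Group M] (e : N ≃* M) (h : OcSet N) : OcSet M := by
  obtain ⟨Y, h1, h2, h3⟩ := h
  refine ⟨{z | e.symm z ∈ Y}, ?_, ?_, ?_⟩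
  · intro a z hz
    have h4 := h1 ((e.trans a).trans e.symm) _ hz
    have h5 : ((e.trans a).trans e.symm) (e.symm z) = e.symm (a z) := by simp
    rw [h5] at h4
    exact h4
  · intro z hz
    obtain ⟨k1, k2, k3, k4⟩ := h2 _ hz
    refine ⟨?_, ?_, ?_, ?_⟩
    · rintro rfl
      exact k1 (map_one _)
    · rwa [MulEquiv.orderOf_eq] at k2
    · rw [← map_inv, isConj_map_iff] at k3
      exact k3
    · rw [Nat.card_congr (centEquiv e.symm z)]
      exact k4
  · let f : {c : ConjClasses N // ∃ y ∈ Y, c = ConjClasses.mk y} →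
        {c : ConjClasses M // ∃ y ∈ {z | e.symm z ∈ Y}, c = ConjClasses.mk y} := fun c =>
      ⟨ConjClasses.map e.toMonoidHom c.1, by
        obtain ⟨c, y, hy, rfl⟩ := c
        refine ⟨e y, ?_, rfl⟩
        show e.symm (e y) ∈ Y
        rwa [e.symm_apply_apply]⟩
    have hf : Function.Bijective f := by
      constructor
      · rintro ⟨c, y, hy, rfl⟩ ⟨d, z, hz, rfl⟩ hcd
        apply Subtype.ext
        have h5 : ConjClasses.mk (e y) = ConjClasses.mk (e z) := congrArg Subtype.val hcd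
        rw [ConjClasses.mk_eq_mk_iff_isConj, isConj_map_iff] at h5
        exact ConjClasses.mk_eq_mk_iff_isConj.2 h5
      · rintro ⟨d, z, hz, rfl⟩
        obtain ⟨x, rfl⟩ := e.surjective z
        refine ⟨⟨ConjClasses.mk x, x, ?_, rfl⟩, rfl⟩
        have : e.symm (e x) ∈ Y := hz
        rwa [e.symm_apply_apply] at this
    rw [← Nat.card_congr (Equiv.ofBijective f hf)]
    exact h3

section Count

variable {N : Type*} [Group N] [Finite N]

/-- Counting classes modulo two. -/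
theorem odd_classes {Y : Set N} (hconj : ∀ y ∈ Y, ∀ g : N, g * y * g⁻¹ ∈ Y)
    (hodd : ∀ y ∈ Y, Odd (Nat.card (centralizer ({y} : Set N)))) {a b : ℕ} (ha : Odd a) (hb : Odd b)
    (hab : a * Nat.card Y = b * Nat.card N) :
    Odd (Nat.card {c : ConjClasses N // ∃ y ∈ Y, c = ConjClasses.mk y}) := by
  classical
  have hfin : Fintype N := Fintype.ofFinite N
  have hfinC : Fintype {c : ConjClasses N // ∃ y ∈ Y, c = ConjClasses.mk y} := Fintype.ofFinite _
  obtain ⟨k, m, hm, hkm⟩ := Nat.exists_eq_two_pow_mul_odd (n := Nat.card N) Nat.card_pos.ne'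
  -- the sizes of the classes
  have h1 : ∀ c : {c : ConjClasses N // ∃ y ∈ Y, c = ConjClasses.mk y}, ∃ j, Odd j ∧
      Nat.card c.1.carrier = 2 ^ k * j := by
    rintro ⟨_, y, hy, rfl⟩
    have h2 := Cfsg.Agent.SmallSimple.SelfCentPrime.card_carrier_mul_card_centralizer y
    rw [hkm] at h2
    have h3 : 2 ^ k ∣ Nat.card (ConjClasses.mk y).carrier := by
      have h4 : Nat.Coprime (2 ^ k) (Nat.card (centralizer ({y} : Set N))) :=
        Nat.Coprime.pow_left _ ((Nat.coprime_two_left).2 (hodd y hy))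
      exact h4.dvd_of_dvd_mul_right (h2 ▸ Dvd.intro _ rfl)
    obtain ⟨j, hj⟩ := h3
    refine ⟨j, ?_, hj⟩
    rw [hj, mul_assoc] at h2
    have h5 := Nat.eq_of_mul_eq_mul_left (by positivity) h2
    rw [← h5] at hm
    exact (Nat.odd_mul.1 hm).1
  choose j hj hcj using h1
  -- the sum over the classes
  have h2 : Nat.card Y = ∑ c : {c : ConjClasses N // ∃ y ∈ Y, c = ConjClasses.mk y},
      Nat.card c.1.carrier := by
    let f : Y → {c : ConjClasses N // ∃ y ∈ Y, c = ConjClasses.mk y} := fun y =>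
      ⟨ConjClasses.mk y.1, y.1, y.2, rfl⟩
    rw [Nat.card_congr (Equiv.sigmaFiberEquiv f).symm, Nat.card_sigma]
    refine Finset.sum_congr rfl fun c _ => ?_
    obtain ⟨_, y, hy, rfl⟩ := c
    refine Nat.card_congr ⟨fun x => ⟨x.1.1, ?_⟩, fun x => ⟨⟨x.1, ?_⟩, ?_⟩, fun x => ?_, fun x => ?_⟩
    · exact ConjClasses.mem_carrier_iff_mk_eq.2 (congrArg Subtype.val x.2)
    · have h3 := ConjClasses.mem_carrier_iff_mk_eq.1 x.2
      rw [ConjClasses.mk_eq_mk_iff_isConj] at h3
      obtain ⟨g, hg⟩ := isConj_iff.1 h3.symm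
      rw [← hg]
      exact hconj y hy g
    · exact Subtype.ext (ConjClasses.mem_carrier_iff_mk_eq.1 x.2)
    · rfl
    · rfl
  rw [h2, hkm, Finset.sum_congr rfl fun c _ => hcj c, ← Finset.mul_sum] at hab
  have h3 : a * ∑ c, j c = b * m := by
    have h4 : 2 ^ k * (a * ∑ c, j c) = 2 ^ k * (b * m) := by linarith
    exact Nat.eq_of_mul_eq_mul_left (by positivity) h4
  have h4 : Odd (∑ c, j c) := by
    have h5 : Odd (a * ∑ c, j c) := by rw [h3]; exact hb.mul hm
    exact (Nat.odd_mul.1 h5).2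
  rw [Finset.odd_sum_iff_odd_card_odd, Finset.filter_true_of_mem fun c _ => hj c] at h4
  rw [Nat.card_eq_fintype_card]
  exact h4

/-- Real classes. -/
theorem odd_real_classes {Y : Set N} (hinv : ∀ y ∈ Y, y⁻¹ ∈ Y)
    (h : Odd (Nat.card {c : ConjClasses N // ∃ y ∈ Y, c = ConjClasses.mk y})) :
    Odd (Nat.card {c : ConjClasses N // ∃ y ∈ {y | y ∈ Y ∧ IsConj y y⁻¹}, c = ConjClasses.mk y}) := by
  classical
  let I : ConjClasses N → ConjClasses N := Quotient.map (fun x => x⁻¹) (by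
    intro x y hxy
    obtain ⟨k, hk⟩ := isConj_iff.1 hxy
    exact isConj_iff.2 ⟨k, by rw [← hk]; group⟩)
  have hI : ∀ x : N, I (ConjClasses.mk x) = ConjClasses.mk x⁻¹ := fun x => rfl
  let F : {c : ConjClasses N // ∃ y ∈ Y, c = ConjClasses.mk y} →
      {c : ConjClasses N // ∃ y ∈ Y, c = ConjClasses.mk y} := fun c => ⟨I c.1, by
    obtain ⟨_, y, hy, rfl⟩ := c
    exact ⟨y⁻¹, hinv y hy, rfl⟩⟩
  have hF : Function.Involutive F := by
    rintro ⟨_, y, hy, rfl⟩
    apply Subtype.ext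
    show I (I (ConjClasses.mk y)) = ConjClasses.mk y
    rw [hI, hI, inv_inv]
  have h1 := Cfsg.Agent.AschCrit.Count.odd_card_of_involutive hF h
  have e : {x : {c : ConjClasses N // ∃ y ∈ Y, c = ConjClasses.mk y} // F x = x} ≃
      {c : ConjClasses N // ∃ y ∈ {y | y ∈ Y ∧ IsConj y y⁻¹}, c = ConjClasses.mk y} :=
    { toFun := fun x => ⟨x.1.1, by
        obtain ⟨⟨_, y, hy, rfl⟩, hx⟩ := x
        refine ⟨y, ⟨hy, ?_⟩, rfl⟩
        have h2 : ConjClasses.mk y⁻¹ = ConjClasses.mk y := congrArg Subtype.val hx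
        exact (ConjClasses.mk_eq_mk_iff_isConj.1 h2).symm⟩
      invFun := fun x => ⟨⟨x.1, by
        obtain ⟨_, y, hy, rfl⟩ := x
        exact ⟨y, hy.1, rfl⟩⟩, by
        obtain ⟨_, y, hy, rfl⟩ := x
        apply Subtype.ext
        show I (ConjClasses.mk y) = ConjClasses.mk y
        rw [hI]
        exact ConjClasses.mk_eq_mk_iff_isConj.2 hy.2.symm⟩
      left_inv := fun x => rfl
      right_inv := fun x => rfl }
  rw [← Nat.card_congr e]
  exact h1

end Count

section Sylow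

variable {N : Type*} [Group N] [Finite N] {p : ℕ}

/-- The elements contained in exactly one Sylow `p`-subgroup. -/
def One (p : ℕ) (N : Type*) [Group N] : Set N :=
  {y | ∃ P : Sylow p N, y ∈ P ∧ ∀ Q : Sylow p N, y ∈ Q → Q = P}

theorem One.inv {y : N} (hy : y ∈ One p N) : y⁻¹ ∈ One p N := by
  obtain ⟨P, h1, h2⟩ := hy
  exact ⟨P, inv_mem h1, fun Q hQ => h2 Q (by simpa using inv_mem hQ)⟩

/-- **The criterion.** -/
theorem ocSet_of (hp : p.Prime) (hp2 : p ≠ 2) (U : Sylow p N) {B : Subgroup N} {R : Set N}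
    (hRU : ∀ y ∈ R, y ∈ U) (h1 : (1 : N) ∉ R)
    (hr1 : ∀ y ∈ R, ∀ g : N, g⁻¹ * y * g ∈ U → g ∈ B)
    (hB : ∀ b ∈ B, ∀ u ∈ U, b * u * b⁻¹ ∈ U)
    (hr2 : ∀ b ∈ B, ∀ y ∈ R, b * y * b⁻¹ ∈ R)
    (hr3 : ∀ y ∈ U, y ∉ R → ∃ g : N, g ∉ B ∧ g⁻¹ * y * g ∈ U)
    (hr4 : ∀ y ∈ R, Odd (Nat.card (centralizer ({y} : Set N)))) {a b : ℕ} (ha : Odd a) (hb : Odd b)
    (hab : a * Nat.card R = b * Nat.card B) : OcSet N := by
  classical
  have hfp : Fact p.Prime := ⟨hp⟩
  have hBfin : Nat.card B ≠ 0 := Nat.card_pos.ne'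
  obtain ⟨y₀, hy₀⟩ : R.Nonempty := by
    rw [Set.nonempty_iff_ne_empty]
    rintro rfl
    have h0 : Nat.card (∅ : Set N) = 0 := by simp
    rw [h0, mul_zero] at hab
    rcases mul_eq_zero.1 hab.symm with h | h
    · exact hb.pos.ne' h
    · exact hBfin h
  -- conjugates of `U`
  have hconj : ∀ (g x : N), x ∈ g • U ↔ g⁻¹ * x * g ∈ U := by
    intro g x
    show x ∈ ((g • U : Sylow p N) : Subgroup N) ↔ _
    rw [Sylow.coe_subgroup_smul, Subgroup.mem_pointwise_smul_iff_inv_smul_mem, ← map_inv,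
      MulAut.smul_def, MulAut.conj_apply, inv_inv]
    rfl
  have hBsmul : ∀ g : N, g • U = U → g ∈ B := by
    intro g hg
    apply hr1 y₀ hy₀
    rw [← hconj, hg]
    exact hRU y₀ hy₀
  have hsmulB : ∀ g ∈ B, g • U = U := by
    intro g hg
    apply Sylow.ext
    ext x
    show x ∈ g • U ↔ x ∈ U
    rw [hconj]
    constructor
    · intro h
      have h2 := hB g hg _ h
      have h3 : g * (g⁻¹ * x * g) * g⁻¹ = x := by group
      rwa [h3] at h2
    · intro h
      have h2 := hB g⁻¹ (inv_mem hg) _ h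
      rwa [inv_inv] at h2
  -- `R` is the set of elements contained in `U` only
  have hR1 : ∀ y ∈ R, ∀ Q : Sylow p N, y ∈ Q → Q = U := by
    intro y hy Q hyQ
    obtain ⟨g, rfl⟩ := MulAction.exists_smul_eq N U Q
    exact hsmulB g (hr1 y hy g ((hconj g y).1 hyQ))
  have hR2 : ∀ y ∈ U, (∀ Q : Sylow p N, y ∈ Q → Q = U) → y ∈ R := by
    intro y hy hQ
    by_contra hyR
    obtain ⟨g, hg, hyg⟩ := hr3 y hy hyR
    exact hg (hBsmul g (hQ (g • U) ((hconj g y).2 hyg)))
  have hOneR : ∀ z : N, z ∈ One p N ↔ ∃ g : N, g⁻¹ * z * g ∈ R := by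
    intro z
    constructor
    · rintro ⟨P, hP, hPu⟩
      obtain ⟨g, rfl⟩ := MulAction.exists_smul_eq N U P
      refine ⟨g, hR2 _ ((hconj g z).1 hP) fun Q hQ => ?_⟩
      have h2 : z ∈ g • Q := by
        show z ∈ ((g • Q : Sylow p N) : Subgroup N)
        rw [Sylow.coe_subgroup_smul, Subgroup.mem_pointwise_smul_iff_inv_smul_mem, ← map_inv,
          MulAut.smul_def, MulAut.conj_apply, inv_inv]
        exact hQ
      have h3 := hPu _ h2
      exact smul_left_cancel g h3
    · rintro ⟨g, hg⟩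
      refine ⟨g • U, (hconj g z).2 (hRU _ hg), fun Q hQ => ?_⟩
      have h2 : g⁻¹ * z * g ∈ g⁻¹ • Q := by
        show _ ∈ ((g⁻¹ • Q : Sylow p N) : Subgroup N)
        rw [Sylow.coe_subgroup_smul, Subgroup.mem_pointwise_smul_iff_inv_smul_mem, ← map_inv,
          MulAut.smul_def, MulAut.conj_apply, inv_inv]
        have h4 : g * (g⁻¹ * z * g) * g⁻¹ = z := by group
        rw [h4]
        exact hQ
      have h3 := hR1 _ hg _ h2
      rw [← h3, smul_inv_smul]
  have hOneconj : ∀ z ∈ One p N, ∀ g : N, g * z * g⁻¹ ∈ One p N := by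
    intro z hz g
    obtain ⟨k, hk⟩ := (hOneR z).1 hz
    refine (hOneR _).2 ⟨g * k, ?_⟩
    have h4 : (g * k)⁻¹ * (g * z * g⁻¹) * (g * k) = k⁻¹ * z * k := by group
    rw [h4]
    exact hk
  have hcent : ∀ z ∈ One p N, Odd (Nat.card (centralizer ({z} : Set N))) := by
    intro z hz
    obtain ⟨g, hg⟩ := (hOneR z).1 hz
    have h2 := hr4 _ hg
    have h3 : (MulAut.conj g⁻¹) z = g⁻¹ * z * g := by rw [MulAut.conj_apply, inv_inv]
    rw [← h3, Nat.card_congr (centEquiv (MulAut.conj g⁻¹) z).symm] at h2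
    exact h2
  -- the number of elements
  have hcount : Nat.card (One p N) * Nat.card B = Nat.card N * Nat.card R := by
    choose g₀ hg₀ using fun z : One p N => (hOneR z.1).1 z.2
    let f : One p N × B → N × R := fun x =>
      (g₀ x.1 * x.2.1, ⟨x.2.1⁻¹ * ((g₀ x.1)⁻¹ * x.1.1 * g₀ x.1) * x.2.1, by
        have h2 := hr2 x.2.1⁻¹ (inv_mem x.2.2) _ (hg₀ x.1)
        rwa [inv_inv] at h2⟩)
    have hf : Function.Bijective f := by
      constructor
      · rintro ⟨⟨z, hz⟩, ⟨b, hb⟩⟩ ⟨⟨z', hz'⟩, ⟨b', hb'⟩⟩ h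
        have e1 : g₀ ⟨z, hz⟩ * b = g₀ ⟨z', hz'⟩ * b' := congrArg Prod.fst h
        have e2 : b⁻¹ * ((g₀ ⟨z, hz⟩)⁻¹ * z * g₀ ⟨z, hz⟩) * b =
            b'⁻¹ * ((g₀ ⟨z', hz'⟩)⁻¹ * z' * g₀ ⟨z', hz'⟩) * b' :=
          congrArg (fun x : N × R => x.2.1) h
        have e3 : z = z' := by
          have e4 : z = (g₀ ⟨z, hz⟩ * b) *
              (b⁻¹ * ((g₀ ⟨z, hz⟩)⁻¹ * z * g₀ ⟨z, hz⟩) * b) * (g₀ ⟨z, hz⟩ * b)⁻¹ := by group
          rw [e4, e2, e1]
          group
        subst e3
        have e5 : b = b' := mul_left_cancel e1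
        subst e5
        rfl
      · rintro ⟨g, ⟨y, hy⟩⟩
        have hz : g * y * g⁻¹ ∈ One p N := by
          refine (hOneR _).2 ⟨g, ?_⟩
          have h4 : g⁻¹ * (g * y * g⁻¹) * g = y := by group
          rw [h4]
          exact hy
        set k := g₀ ⟨g * y * g⁻¹, hz⟩ with hk
        have h2 : k⁻¹ * (g * y * g⁻¹) * k ∈ R := hg₀ ⟨g * y * g⁻¹, hz⟩
        have hkB : k⁻¹ * g ∈ B := by
          refine hr1 _ h2 _ ?_
          have h4 : (k⁻¹ * g)⁻¹ * (k⁻¹ * (g * y * g⁻¹) * k) * (k⁻¹ * g) = y := by group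
          rw [h4]
          exact hRU y hy
        refine ⟨⟨⟨g * y * g⁻¹, hz⟩, ⟨k⁻¹ * g, hkB⟩⟩, ?_⟩
        refine Prod.ext ?_ (Subtype.ext ?_)
        · show k * (k⁻¹ * g) = g
          group
        · show (k⁻¹ * g)⁻¹ * (k⁻¹ * (g * y * g⁻¹) * k) * (k⁻¹ * g) = y
          group
    have h2 := Nat.card_congr (Equiv.ofBijective f hf)
    rwa [Nat.card_prod, Nat.card_prod] at h2
  have hab' : a * Nat.card (One p N) = b * Nat.card N := by
    apply Nat.eq_of_mul_eq_mul_right (Nat.pos_of_ne_zero hBfin)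
    calc a * Nat.card (One p N) * Nat.card B = a * (Nat.card (One p N) * Nat.card B) := by ring
      _ = Nat.card N * (a * Nat.card R) := by rw [hcount]; ring
      _ = b * Nat.card N * Nat.card B := by rw [hab]; ring
  have hodd := odd_real_classes (fun y hy => One.inv hy) (odd_classes hOneconj hcent ha hb hab')
  refine ⟨{y | y ∈ One p N ∧ IsConj y y⁻¹}, ?_, ?_, hodd⟩
  · rintro α y ⟨⟨P, hP, hPu⟩, hy⟩
    refine ⟨?_, ?_⟩
    · have hmem : ∀ (β : MulAut N) (Q : Sylow p N) (x : N), x ∈ β • Q ↔ β⁻¹ x ∈ Q := by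
        intro β Q x
        show x ∈ ((β • Q : Sylow p N) : Subgroup N) ↔ _
        rw [Sylow.pointwise_smul_def, Subgroup.mem_pointwise_smul_iff_inv_smul_mem]
        rfl
      refine ⟨α • P, (hmem _ _ _).2 ?_, fun Q hQ => ?_⟩
      · rw [MulAut.inv_apply_self]
        exact hP
      · have h2 : y ∈ α⁻¹ • Q := by
          rw [hmem, inv_inv]
          exact hQ
        rw [← hPu _ h2, smul_inv_smul]
    · rw [← map_inv]
      exact (isConj_map_iff α _ _).2 hy
  · rintro y ⟨hy, hyr⟩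
    obtain ⟨g, hg⟩ := (hOneR y).1 hy
    refine ⟨?_, ?_, hyr, hcent y hy⟩
    · rintro rfl
      rw [mul_one, inv_mul_cancel] at hg
      exact h1 hg
    · obtain ⟨P, hP, -⟩ := hy
      obtain ⟨k, hk⟩ := IsPGroup.iff_orderOf.1 P.isPGroup' ⟨y, hP⟩
      rw [Subgroup.orderOf_mk] at hk
      rw [hk]
      exact (hp.odd_of_ne_two hp2).pow

end Sylow

end Cfsg.Agent.H610.OddReg
end

-- part: H610/OddRegLie
section
/-!
# Regular unipotent classes of the Chevalley groups

`ocSet_chev`: for `q` odd, `D.group F` satisfies `OcSet` if `d |H| = (q - 1)^r` with `d` odd: the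
elements contained in exactly one Sylow `p`-subgroup are the regular unipotent elements, and their
number is `d |G| / q^r`.
-/

set_option autoImplicit false

namespace Cfsg.Agent.H610.OddRegLie

open Cfsg Cfsg.Lie Cfsg.Agent.ChevalleyStructure.Elts Cfsg.Agent.ChevalleyStructure.RootVec
  Cfsg.Agent.ChevalleyStructure.RootVecTab Cfsg.Agent.H610.ChevRegular Cfsg.Agent.H610.OddReg

universe u

variable {F : Type u} [Field F] {D : ChevalleyDatum}

/-- Conjugators of a regular unipotent element into `B` lie in `B`. -/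
theorem mem_borel_of_conj (hD : InList D) {y : GL D.Idx F} (hy : Reg hD y) {g : GL D.Idx F}
    (hg : g ∈ D.group F) (hgy : g⁻¹ * y * g ∈ D.borelSubgroup F) : g ∈ D.borelSubgroup F := by
  obtain ⟨P, hPB, hPN, hPS⟩ := Cfsg.Agent.S1042.result (F := F) D hD
  have hyG : y ∈ D.group F := posUnipotent_le_group hD F hy.1
  have hyB : (⟨y, hyG⟩ : D.group F) ∈ P.B := by
    rw [hPB, Subgroup.mem_subgroupOf]
    exact Subgroup.mem_sup_left hy.1
  by_contra hgB
  have hgB' : (⟨g, hg⟩ : D.group F) ∉ P.B := by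
    rw [hPB, Subgroup.mem_subgroupOf]
    exact hgB
  have hgy' : (⟨g, hg⟩ : D.group F)⁻¹ * ⟨y, hyG⟩ * ⟨g, hg⟩ ∈ P.B := by
    rw [hPB, Subgroup.mem_subgroupOf]
    exact hgy
  obtain ⟨s, hs, b, hb, h2⟩ := RegularBN.exists_adjacent hyB hgy' hgB'
  rw [hPS] at hs
  obtain ⟨i, hi, hs⟩ := hs
  have hs' : (s : GL D.Idx F) = nG hD (D.simple i) 1 := (eq_nG_iff hD _ _ _).2 hs
  rw [hPB, Subgroup.mem_subgroupOf] at hb h2
  have h3 := (hy.conj (inv_mem hb)).2 i hi
  rw [inv_inv] at h3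
  obtain ⟨t, ht, h4⟩ := h3
  apply ht
  refine comp_eq_zero_of_conj_mem hD hi h4 ?_
  rw [← hs']
  exact h2

theorem conj_mem_pos (hD : InList D) {b u : GL D.Idx F} (hb : b ∈ D.borelSubgroup F)
    (hu : u ∈ D.posUnipotent F) : b * u * b⁻¹ ∈ D.posUnipotent F := by
  obtain ⟨v, hv, h, hh, rfl⟩ := exists_of_mem_borel hD hb
  have h1 : v * h * u * (v * h)⁻¹ = v * (h * u * h⁻¹) * v⁻¹ := by group
  rw [h1]
  have h2 := (Cfsg.Agent.S1036.result (F := F) D hD).1 hh
  exact mul_mem (mul_mem hv ((Subgroup.mem_normalizer_iff.1 h2 u).1 hu)) (inv_mem hv)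

/-- An element of `U` which is not regular. -/
theorem exists_comp_zero (hD : InList D) {u : GL D.Idx F} (hu : u ∈ D.posUnipotent F)
    (hr : ¬ Reg hD u) : ∃ i < D.rank, u ∈ Ui D F i := by
  by_contra hcon
  push Not at hcon
  apply hr
  refine ⟨hu, fun i hi => ?_⟩
  obtain ⟨t, ht⟩ := exists_comp hD hi hu
  refine ⟨t, ?_, ht⟩
  rintro rfl
  apply hcon i hi
  unfold Comp at ht
  rwa [xG_zero, inv_one, mul_one] at ht

theorem nG_not_mem (hD : InList D) {i : ℕ} (hi : i < D.rank) :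
    nG hD (D.simple i) (1 : F) ∉ D.borelSubgroup F := by
  intro h
  have h1 : xG hD (D.simple i) (1 : F) ∈ D.borelSubgroup F :=
    Subgroup.mem_sup_left (xG_mem_posUnipotent hD (simple_pos (checked hD) hi) _)
  exact one_ne_zero (eq_zero_of_conj_mem hD hi (mul_mem (mul_mem (inv_mem h) h1) h))

/-! ### Counting -/

/-- The elements of `U` all of whose components vanish. -/
def KK (hD : InList D) : Subgroup (GL D.Idx F) where
  carrier := {u | u ∈ D.posUnipotent F ∧ ∀ i < D.rank, Comp hD i u 0}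
  mul_mem' := by
    rintro a b ⟨ha, ha'⟩ ⟨hb, hb'⟩
    refine ⟨mul_mem ha hb, fun i hi => ?_⟩
    have := comp_mul hD hi (ha' i hi) (hb' i hi)
    rwa [add_zero] at this
  one_mem' := ⟨one_mem _, fun i _ => comp_one hD i⟩
  inv_mem' := by
    rintro a ⟨ha, ha'⟩
    refine ⟨inv_mem ha, fun i hi => ?_⟩
    have := comp_inv hD hi (ha' i hi)
    rwa [neg_zero] at this

theorem exists_section (hD : InList D) (c : ℕ → F) :
    ∀ n ≤ D.rank, ∃ u ∈ D.posUnipotent F, ∀ i < D.rank, Comp hD i u (if i < n then c i else 0)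
  | 0, _ => ⟨1, one_mem _, fun i _ => by simpa using comp_one hD i⟩
  | n + 1, hn => by
    obtain ⟨u, hu, h⟩ := exists_section hD c n (by omega)
    refine ⟨u * xG hD (D.simple n) (c n), mul_mem hu (xG_mem_posUnipotent hD
      (simple_pos (checked hD) (by omega)) _), fun i hi => ?_⟩
    by_cases hin : i = n
    · subst hin
      have h1 := comp_mul hD hi (h i hi) (comp_simple hD i (c i))
      simpa using h1
    · have h1 := comp_mul hD hi (h i hi) (comp_simple_ne hD hi (by omega : n < D.rank)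
        (fun h => hin h.symm) (c n))
      rw [add_zero] at h1
      have h2 : (if i < n + 1 then c i else 0) = if i < n then c i else 0 := by
        by_cases h3 : i < n
        · rw [if_pos h3, if_pos (by omega)]
        · rw [if_neg h3, if_neg (by omega)]
      rw [h2]
      exact h1

theorem exists_sec (hD : InList D) (c : Fin D.rank → F) :
    ∃ u ∈ D.posUnipotent F, ∀ i : Fin D.rank, Comp hD i u (c i) := by
  obtain ⟨u, hu, h⟩ := exists_section hD (fun i => if h : i < D.rank then c ⟨i, h⟩ else 0) D.rank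
    le_rfl
  refine ⟨u, hu, fun i => ?_⟩
  have := h i.1 i.2
  rwa [if_pos i.2, dif_pos i.2] at this

/-- Elements of `U` with components in a given set. -/
theorem card_comp (hD : InList D) (A : Set (Fin D.rank → F)) :
    Nat.card {u : GL D.Idx F // u ∈ D.posUnipotent F ∧
      ∃ c ∈ A, ∀ i : Fin D.rank, Comp hD i u (c i)} =
      Nat.card A * Nat.card (KK (F := F) hD) := by
  choose s hs hsc using exists_sec (F := F) hD
  rw [← Nat.card_prod]
  let f : A × KK (F := F) hD → {u : GL D.Idx F // u ∈ D.posUnipotent F ∧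
      ∃ c ∈ A, ∀ i : Fin D.rank, Comp hD i u (c i)} := fun x =>
    ⟨s x.1 * x.2, mul_mem (hs _) x.2.2.1, x.1, x.1.2, fun i => by
      have := comp_mul hD i.2 (hsc x.1 i) (x.2.2.2 i i.2)
      rwa [add_zero] at this⟩
  refine (Nat.card_congr (Equiv.ofBijective f ⟨?_, ?_⟩)).symm
  · rintro ⟨⟨c, hc⟩, ⟨k, hk⟩⟩ ⟨⟨c', hc'⟩, ⟨k', hk'⟩⟩ h
    have e : s c * k = s c' * k' := congrArg Subtype.val h
    have e1 : c = c' := by
      funext i
      have h1 := comp_mul hD i.2 (hsc c i) (hk.2 i i.2)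
      have h2 := comp_mul hD i.2 (hsc c' i) (hk'.2 i i.2)
      rw [e] at h1
      have := comp_unique hD i.2 h1 h2
      simpa using this
    subst e1
    have e2 : k = k' := mul_left_cancel e
    subst e2
    rfl
  · rintro ⟨u, hu, c, hc, huc⟩
    refine ⟨⟨⟨c, hc⟩, ⟨(s c)⁻¹ * u, mul_mem (inv_mem (hs c)) hu, fun i hi => ?_⟩⟩, ?_⟩
    · have := comp_mul hD hi (comp_inv hD hi (hsc c ⟨i, hi⟩)) (huc ⟨i, hi⟩)
      rwa [neg_add_cancel] at this
    · apply Subtype.ext
      show s c * ((s c)⁻¹ * u) = u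
      group

theorem card_pos [Finite F] (hD : InList D) :
    Nat.card (D.posUnipotent F) = Nat.card F ^ D.rank * Nat.card (KK (F := F) hD) := by
  have h1 := card_comp (F := F) hD Set.univ
  have h2 : Nat.card (Set.univ : Set (Fin D.rank → F)) = Nat.card F ^ D.rank := by
    rw [Nat.card_congr (Equiv.Set.univ _), Nat.card_fun, Nat.card_fin]
  rw [h2] at h1
  rw [← h1]
  refine Nat.card_congr (Equiv.subtypeEquivRight fun u => ?_)
  constructor
  · intro hu
    refine ⟨hu, ?_⟩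
    choose c hc using fun i : Fin D.rank => exists_comp hD i.2 hu
    exact ⟨c, Set.mem_univ _, hc⟩
  · exact fun h => h.1

theorem card_reg [Finite F] (hD : InList D) :
    Nat.card {u : GL D.Idx F // Reg hD u} =
      (Nat.card F - 1) ^ D.rank * Nat.card (KK (F := F) hD) := by
  classical
  have h1 := card_comp (F := F) hD {c | ∀ i, c i ≠ 0}
  have h2 : Nat.card {c : Fin D.rank → F | ∀ i, c i ≠ 0} = (Nat.card F - 1) ^ D.rank := by
    have e : {c : Fin D.rank → F | ∀ i, c i ≠ 0} ≃ (Fin D.rank → Fˣ) :=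
      { toFun := fun c i => Units.mk0 (c.1 i) (c.2 i)
        invFun := fun c => ⟨fun i => (c i : F), fun i => (c i).ne_zero⟩
        left_inv := fun c => rfl
        right_inv := fun c => by
          funext i
          exact Units.ext rfl }
    rw [Nat.card_congr e, Nat.card_fun, Nat.card_fin, Nat.card_units]
  rw [h2] at h1
  rw [← h1]
  refine Nat.card_congr (Equiv.subtypeEquivRight fun u => ?_)
  constructor
  · rintro ⟨hu, h⟩
    refine ⟨hu, ?_⟩
    choose c hc0 hc using fun i : Fin D.rank => h i.1 i.2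
    exact ⟨c, hc0, hc⟩
  · rintro ⟨hu, c, hc, h⟩
    exact ⟨hu, fun i hi => ⟨c ⟨i, hi⟩, hc _, h ⟨i, hi⟩⟩⟩

theorem card_borel [Finite F] (hD : InList D) :
    Nat.card (D.borelSubgroup F) =
      Nat.card (D.posUnipotent F) * Nat.card (D.diagonalSubgroup F) := by
  rw [← Nat.card_prod]
  let f : D.posUnipotent F × D.diagonalSubgroup F → D.borelSubgroup F := fun x =>
    ⟨x.1 * x.2, mul_mem (Subgroup.mem_sup_left x.1.2) (Subgroup.mem_sup_right x.2.2)⟩
  refine (Nat.card_congr (Equiv.ofBijective f ⟨?_, ?_⟩)).symm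
  · rintro ⟨⟨u, hu⟩, ⟨h, hh⟩⟩ ⟨⟨u', hu'⟩, ⟨h', hh'⟩⟩ e
    have e1 : u * h = u' * h' := congrArg Subtype.val e
    have e2 : u'⁻¹ * u = h' * h⁻¹ := by
      rw [inv_mul_eq_iff_eq_mul, ← mul_assoc, ← e1, mul_inv_cancel_right]
    have e3 : u'⁻¹ * u ∈ D.posUnipotent F ⊓ D.diagonalSubgroup F :=
      Subgroup.mem_inf.2 ⟨mul_mem (inv_mem hu') hu, by rw [e2]; exact mul_mem hh' (inv_mem hh)⟩
    rw [(Cfsg.Agent.S1036.result (F := F) D hD).2, Subgroup.mem_bot] at e3
    have e4 : u = u' := (inv_mul_eq_one.1 e3).symm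
    subst e4
    have e5 : h = h' := mul_left_cancel e1
    subst e5
    rfl
  · rintro ⟨b, hb⟩
    obtain ⟨u, hu, h, hh, rfl⟩ := exists_of_mem_borel hD hb
    exact ⟨⟨⟨u, hu⟩, ⟨h, hh⟩⟩, rfl⟩

/-- **Regular unipotent classes of the Chevalley groups**, `q` odd. -/
theorem ocSet_chev [Fintype F] (hF : Odd (Fintype.card F)) (hD : InList D) (hr : 0 < D.rank)
    {d : ℕ} (hd : Odd d)
    (hH : d * Nat.card (D.diagonalSubgroup F) = (Fintype.card F - 1) ^ D.rank)
    (hS : ∀ p : ℕ, p.Prime → p ∣ Fintype.card F →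
      ¬ p ∣ ((D.posUnipotent F).subgroupOf (D.group F)).index) : OcSet (D.group F) := by
  classical
  obtain ⟨p, hpc⟩ := CharP.exists F
  obtain ⟨⟨m, hm⟩, hp, hcard⟩ := FiniteField.card F p
  simp only [PNat.mk_coe] at hcard
  have hfp : Fact p.Prime := ⟨hp⟩
  have hp2 : p ≠ 2 := by
    rintro rfl
    rw [hcard, Nat.odd_pow_iff hm.ne'] at hF
    exact absurd hF (by decide)
  have hcardU : Nat.card (D.posUnipotent F) = Fintype.card F ^ (D.nroots / 2) :=
    Cfsg.Agent.S1027.result D hD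
  have hUp : IsPGroup p ((D.posUnipotent F).subgroupOf (D.group F)) := by
    have h1 : IsPGroup p (D.posUnipotent F) :=
      IsPGroup.of_card (n := m * (D.nroots / 2)) (by rw [hcardU, hcard, pow_mul])
    exact h1.of_injective (Subgroup.subgroupOfEquivOfLe (posUnipotent_le_group hD F)).toMonoidHom
      (Subgroup.subgroupOfEquivOfLe (posUnipotent_le_group hD F)).injective
  have hpd : p ∣ Fintype.card F := by rw [hcard]; exact dvd_pow_self p hm.ne'
  let U : Sylow p (D.group F) := hUp.toSylow (hS p hp hpd)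
  have hU : ∀ y : D.group F, y ∈ U ↔ y.1 ∈ D.posUnipotent F := fun y => Iff.rfl
  refine ocSet_of hp hp2 U (B := (D.borelSubgroup F).subgroupOf (D.group F))
    (R := {y | Reg hD y.1}) ?_ ?_ ?_ ?_ ?_ ?_ ?_ (a := Fintype.card F ^ D.rank) (b := d) hF.pow hd ?_
  · intro y hy
    exact (hU y).2 hy.1
  · intro h
    obtain ⟨t, ht, h1⟩ := h.2 0 hr
    exact ht (comp_unique hD hr h1 (comp_one hD 0))
  · intro y hy g hg
    exact mem_borel_of_conj hD hy g.2 (Subgroup.mem_sup_left ((hU _).1 hg))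
  · intro b hb u hu
    exact (hU _).2 (conj_mem_pos hD hb ((hU _).1 hu))
  · intro b hb y hy
    exact Reg.conj hy hb
  · intro y hy hyR
    obtain ⟨i, hi, h1⟩ := exists_comp_zero hD ((hU y).1 hy) hyR
    have hnG : nG hD (D.simple i) (1 : F) ∈ D.group F := nG_mem_group hD _ _
    refine ⟨⟨nG hD (D.simple i) (1 : F), hnG⟩, ?_, (hU _).2 (Ui_le D F i ?_)⟩
    · exact nG_not_mem hD hi
    · have h2 := conj_mem_Ui hD hi (inv_mem (nG_mem (F := F) hD i)) h1
      rwa [inv_inv] at h2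
  · intro y hy
    exact odd_centralizer hF hD le_rfl y.2 hy
  · have h1 : Nat.card ({y | Reg hD y.1} : Set (D.group F)) =
        Nat.card {u : GL D.Idx F // Reg hD u} := by
      refine Nat.card_congr ⟨fun y => ⟨y.1.1, y.2⟩, fun u => ⟨⟨u.1, posUnipotent_le_group hD F
        u.2.1⟩, u.2⟩, fun y => rfl, fun u => rfl⟩
    have h2 : Nat.card ((D.borelSubgroup F).subgroupOf (D.group F)) =
        Nat.card (D.borelSubgroup F) :=
      Nat.card_congr (Subgroup.subgroupOfEquivOfLe (borel_le_group hD)).toEquiv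
    rw [h1, h2, card_borel hD, card_reg hD, card_pos hD, Nat.card_eq_fintype_card, ← hH]
    ring

theorem not_dvd_pow_sub_one {p q n : ℕ} (hp : p.Prime) (hpq : p ∣ q) (hq : 0 < q) (hn : n ≠ 0) :
    ¬ p ∣ q ^ n - 1 := by
  intro h
  have h1 : p ∣ q ^ n := dvd_pow hpq hn
  have h2 : 1 ≤ q ^ n := Nat.one_le_pow _ _ hq
  have h3 : p ∣ 1 := by
    have := Nat.dvd_sub h1 h
    rwa [Nat.sub_sub_self h2] at this
  exact hp.one_lt.ne' (Nat.dvd_one.1 h3)

/-- `G₂(q)`, `q` odd. -/
theorem g2_oc [Fintype F] (hF : Odd (Fintype.card F)) : OcSet (chevG2.group F) := by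
  have hD : InList chevG2 := by simp
  have h1 := Cfsg.Agent.S1035.result (F := F) rfl (chevG2, 1) (by simp)
  refine ocSet_chev hF hD (by decide) odd_one h1 ?_
  intro p hp hpd hdvd
  have h2 := Cfsg.Agent.S1059.result (F := F) rfl
  have h3 := Cfsg.Agent.S1027.result (F := F) chevG2 hD
  have h4 : chevG2.nroots / 2 = 6 := by decide
  rw [h4, ← Nat.card_congr (Subgroup.subgroupOfEquivOfLe (posUnipotent_le_group hD F)).toEquiv]
    at h3
  have h5 := Subgroup.card_mul_index ((chevG2.posUnipotent F).subgroupOf (chevG2.group F))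
  have hq : 0 < Fintype.card F := Fintype.card_pos
  rw [h3, h2, mul_assoc] at h5
  have h6 := Nat.eq_of_mul_eq_mul_left (by positivity) h5
  rw [h6, hp.dvd_mul] at hdvd
  rcases hdvd with h | h
  · exact not_dvd_pow_sub_one hp hpd hq (by norm_num) h
  · exact not_dvd_pow_sub_one hp hpd hq (by norm_num) h

theorem g2 {G : Type*} [Group G] [Fintype F] (hF : Odd (Fintype.card F))
    (e : G ≃* chevG2.group F) : OcSet G :=
  (g2_oc hF).of_equiv e.symm

end Cfsg.Agent.H610.OddRegLie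
end

private theorem dce_d39483379d8a : _root_.True := by
  try have : _root_.True := by simp only [_root_.Cfsg.Agent.H610.ChevRegular.Comp.congr_simp]
  exact _root_.True.intro
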